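import Cfsg.Agent.Lib.Helper59.CY.Base

set_option autoImplicit false

namespace Cfsg.Agent.Lib.Helper59.CY

variable {G : Type*} [Group G] [Finite G] {p : ℕ} [Fact p.Prime]

omit [Finite G] in
-- AR1
theorem AR1 (P : Sylow p G) {K : Subgroup G} (φ : K →* (ZMod p)ˣ)
    (hφ : ∀ k : K, φ k = 1 ↔ (k : G) ∈ Cz (P : Subgroup G))
    {y : G} (hyK : y ∈ Nz K)
    (h5 : ∀ a ∈ K, a ∈ Cz (P : Subgroup G) → y⁻¹ * a * y ∈ Cz (P : Subgroup G) → a = 1)
    (r : ℕ) [Fact r.Prime] : Nat.card {u : G // u ∈ K ∧ u ^ r = 1} ≤ r ^ 2 := by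
  classical
  have hr : 0 < r := (Fact.out : r.Prime).pos
  have hcj : ∀ u ∈ K, y⁻¹ * u * y ∈ K := by
    intro u hu
    have := (Subgroup.mem_normalizer_iff.mp (Subgroup.inv_mem _ hyK) u).mp hu
    simpa using this
  let Rt : Type := {z : (ZMod p)ˣ // z ^ r = 1}
  have hRt : Nat.card Rt ≤ r := by
    have h1 := IsCyclic.card_pow_eq_one_le (α := (ZMod p)ˣ) hr
    have h2 : Nat.card Rt = (Finset.univ.filter (fun a : (ZMod p)ˣ => a ^ r = 1)).card := by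
      rw [Nat.card_eq_fintype_card, Fintype.card_subtype]
    rw [h2]; exact h1
  let g : {u : G // u ∈ K ∧ u ^ r = 1} → Rt × Rt := fun u =>
    (⟨φ ⟨u.1, u.2.1⟩, by
        rw [← map_pow]
        have : (⟨u.1, u.2.1⟩ : K) ^ r = 1 := Subtype.ext (by simpa using u.2.2)
        rw [this, map_one]⟩,
     ⟨φ ⟨y⁻¹ * u.1 * y, hcj _ u.2.1⟩, by
        rw [← map_pow]
        have : (⟨y⁻¹ * u.1 * y, hcj _ u.2.1⟩ : K) ^ r = 1 := by
          apply Subtype.ext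
          show (y⁻¹ * u.1 * y) ^ r = 1
          have h := conj_pow (a := y⁻¹) (b := u.1) (i := r)
          rw [inv_inv] at h
          rw [h, u.2.2]; group
        rw [this, map_one]⟩)
  have hg : Function.Injective g := by
    intro u v huv
    have h1 : φ ⟨u.1, u.2.1⟩ = φ ⟨v.1, v.2.1⟩ := congrArg (fun z => (z.1 : Rt).1) huv
    have h2 : φ ⟨y⁻¹ * u.1 * y, hcj _ u.2.1⟩ = φ ⟨y⁻¹ * v.1 * y, hcj _ v.2.1⟩ :=
      congrArg (fun z => (z.2 : Rt).1) huv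
    have hd : u.1 * v.1⁻¹ ∈ K := K.mul_mem u.2.1 (K.inv_mem v.2.1)
    have h3 : u.1 * v.1⁻¹ ∈ Cz (P : Subgroup G) := by
      have : φ ⟨u.1 * v.1⁻¹, hd⟩ = 1 := by
        have e : (⟨u.1 * v.1⁻¹, hd⟩ : K) = ⟨u.1, u.2.1⟩ * (⟨v.1, v.2.1⟩ : K)⁻¹ := rfl
        rw [e, map_mul, map_inv, h1, mul_inv_cancel]
      exact (hφ _).mp this
    have h4 : y⁻¹ * (u.1 * v.1⁻¹) * y ∈ Cz (P : Subgroup G) := by
      have : φ ⟨y⁻¹ * (u.1 * v.1⁻¹) * y, hcj _ hd⟩ = 1 := by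
        have e : (⟨y⁻¹ * (u.1 * v.1⁻¹) * y, hcj _ hd⟩ : K) =
            ⟨y⁻¹ * u.1 * y, hcj _ u.2.1⟩ * (⟨y⁻¹ * v.1 * y, hcj _ v.2.1⟩ : K)⁻¹ := by
          apply Subtype.ext
          show y⁻¹ * (u.1 * v.1⁻¹) * y = y⁻¹ * u.1 * y * (y⁻¹ * v.1 * y)⁻¹
          group
        rw [e, map_mul, map_inv, h2, mul_inv_cancel]
      exact (hφ _).mp this
    have h6 := h5 _ hd h3 h4
    apply Subtype.ext
    exact mul_inv_eq_one.mp h6
  haveI : Finite Rt := inferInstance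
  calc Nat.card {u : G // u ∈ K ∧ u ^ r = 1} ≤ Nat.card (Rt × Rt) := Nat.card_le_card_of_injective g hg
    _ = Nat.card Rt * Nat.card Rt := Nat.card_prod _ _
    _ ≤ r * r := Nat.mul_le_mul hRt hRt
    _ = r ^ 2 := by ring

-- AR2
theorem AR2 {r c : ℕ} (hr : r.Prime) (hrp : r ∣ p - 1) (hc : c = r ∨ c = r ^ 2)
    (hmod : c ≡ 1 [MOD p]) : p = 3 ∧ r = 2 ∧ c = 4 := by
  have hpp : p.Prime := Fact.out
  have hp1 : 0 < p - 1 := by have := hpp.two_le; omega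
  have hrle : r ≤ p - 1 := Nat.le_of_dvd hp1 hrp
  have hr2 := hr.two_le
  rcases hc with rfl | rfl
  · exfalso
    have := Nat.ModEq.eq_of_lt_of_lt hmod (by omega) (by omega)
    omega
  · have h1 : p ∣ r ^ 2 - 1 := (Nat.modEq_iff_dvd' (by nlinarith)).mp hmod.symm
    have h2 : r ^ 2 - 1 = (r - 1) * (r + 1) := by
      obtain ⟨s, rfl⟩ : ∃ s, r = s + 1 := ⟨r - 1, by omega⟩
      simp only [Nat.add_sub_cancel]
      have : (s + 1) ^ 2 = s * (s + 1 + 1) + 1 := by ring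
      rw [this, Nat.add_sub_cancel]
    rw [h2] at h1
    rcases (Nat.Prime.dvd_mul hpp).mp h1 with h | h
    · exfalso
      have := Nat.le_of_dvd (by omega) h
      omega
    · have h3 := Nat.le_of_dvd (by omega) h
      have h4 : p = r + 1 := by omega
      rcases hr.eq_two_or_odd with h5 | h5
      · subst h5
        exact ⟨h4, rfl, by norm_num⟩
      · exfalso
        rcases hpp.eq_two_or_odd with h6 | h6 <;> omega

-- AR3
theorem AR3 {K : Subgroup G} (hKab : ∀ x ∈ K, ∀ y ∈ K, x * y = y * x) {r : ℕ} [Fact r.Prime]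
    (hr : r ∣ Nat.card K) (hle : Nat.card {u : G // u ∈ K ∧ u ^ r = 1} ≤ r ^ 2) :
    ∃ W : Subgroup G, (∀ u, u ∈ W ↔ u ∈ K ∧ u ^ r = 1) ∧ (Nat.card W = r ∨ Nat.card W = r ^ 2) := by
  have hrp : r.Prime := Fact.out
  let W : Subgroup G :=
    { carrier := {u | u ∈ K ∧ u ^ r = 1}
      one_mem' := ⟨K.one_mem, one_pow _⟩
      mul_mem' := by
        rintro a b ⟨ha, ha'⟩ ⟨hb, hb'⟩
        refine ⟨K.mul_mem ha hb, ?_⟩
        rw [(show Commute a b from hKab a ha b hb).mul_pow, ha', hb', one_mul]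
      inv_mem' := by
        rintro a ⟨ha, ha'⟩
        exact ⟨K.inv_mem ha, by rw [inv_pow, ha', inv_one]⟩ }
  have hW : ∀ u, u ∈ W ↔ u ∈ K ∧ u ^ r = 1 := fun u => Iff.rfl
  refine ⟨W, hW, ?_⟩
  have hWp : IsPGroup r W := by
    intro u
    refine ⟨1, ?_⟩
    apply Subtype.ext
    rw [pow_one]
    exact u.2.2
  obtain ⟨n, hn⟩ := IsPGroup.iff_card.mp hWp
  have hle' : Nat.card W ≤ r ^ 2 := hle
  obtain ⟨⟨a, haK⟩, ha⟩ := exists_prime_orderOf_dvd_card' (G := K) r hr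
  rw [Subgroup.orderOf_mk] at ha
  have haW : a ∈ W := ⟨haK, by rw [← ha, pow_orderOf_eq_one]⟩
  have h1 : r ∣ Nat.card W := ha ▸ Subgroup.orderOf_dvd_natCard W haW
  rw [hn] at hle' h1 ⊢
  have hn2 : n ≤ 2 := (Nat.pow_le_pow_iff_right hrp.one_lt).mp hle'
  have hn0 : n ≠ 0 := by
    rintro rfl
    rw [pow_zero] at h1
    exact hrp.one_lt.ne' (Nat.dvd_one.mp h1)
  have : n = 1 ∨ n = 2 := by omega
  rcases this with rfl | rfl
  · left; rw [pow_one]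
  · right; rfl

omit [Finite G] in
-- AR4
theorem AR4 (P : Sylow p G) {K : Subgroup G} (φ : K →* (ZMod p)ˣ)
    (hφ : ∀ k : K, φ k = 1 ↔ (k : G) ∈ Cz (P : Subgroup G))
    {y : G} (hyK : y ∈ Nz K)
    (h5 : ∀ a ∈ K, a ∈ Cz (P : Subgroup G) → y⁻¹ * a * y ∈ Cz (P : Subgroup G) → a = 1) :
    Nat.card (K ⊓ Cz (P : Subgroup G) : Subgroup G) ∣ p - 1 := by
  have hcj : ∀ u ∈ K, y⁻¹ * u * y ∈ K := by
    intro u hu
    have := (Subgroup.mem_normalizer_iff.mp (Subgroup.inv_mem _ hyK) u).mp hu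
    simpa using this
  let ψ : (K ⊓ Cz (P : Subgroup G) : Subgroup G) →* (ZMod p)ˣ :=
    { toFun := fun a => φ ⟨y⁻¹ * a.1 * y, hcj _ a.2.1⟩
      map_one' := by
        have : (⟨y⁻¹ * ((1 : (K ⊓ Cz (P : Subgroup G) : Subgroup G)) : G) * y, hcj _ (K.one_mem)⟩ : K) = 1 := by
          apply Subtype.ext
          show y⁻¹ * 1 * y = 1
          group
        exact this ▸ map_one φ
      map_mul' := by
        intro a b
        rw [← map_mul]
        congr 1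
        apply Subtype.ext
        show y⁻¹ * (a.1 * b.1) * y = y⁻¹ * a.1 * y * (y⁻¹ * b.1 * y)
        group }
  have hinj : Function.Injective ψ := by
    rw [injective_iff_map_eq_one]
    intro a ha
    apply Subtype.ext
    exact h5 a.1 a.2.1 a.2.2 ((hφ _).mp ha)
  have h1 := Subgroup.card_dvd_of_injective ψ hinj
  rwa [Nat.card_eq_fintype_card (α := (ZMod p)ˣ), ZMod.card_units] at h1

-- AR5
theorem AR5 {e f : ℕ} (he : e ∣ p - 1) (he1 : e ≠ 1) (hmod : e * f ≡ 1 [MOD p]) : f ≠ 1 := by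
  have hpp : p.Prime := Fact.out
  rintro rfl
  rw [mul_one] at hmod
  have hp1 : 0 < p - 1 := by have := hpp.two_le; omega
  have hle : e ≤ p - 1 := Nat.le_of_dvd hp1 he
  have := Nat.ModEq.eq_of_lt_of_lt hmod (by omega) (by have := hpp.two_le; omega)
  exact he1 this

end Cfsg.Agent.Lib.Helper59.CY
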