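import Mathlib
import Cfsg.Prelude.Def_Transfer

/-!
# S4016 (cyclic Sylow p, abelian p'-subgroups): definitions for the farm CY
-/

set_option autoImplicit false

namespace Cfsg.Agent.Lib.Helper59.CY

variable {G : Type*} [Group G]

/-- normalizer of a subgroup -/
abbrev Nz (H : Subgroup G) : Subgroup G := Subgroup.normalizer (H : Set G)
/-- centralizer of a subgroup -/
abbrev Cz (H : Subgroup G) : Subgroup G := Subgroup.centralizer (H : Set G)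
/-- centralizer of an element -/
abbrev Ce (x : G) : Subgroup G := Subgroup.centralizer ({x} : Set G)

/-- `x` is a `p'`-element -/
def PP (p : ℕ) (x : G) : Prop := (orderOf x).Coprime p
/-- `x` is a `p`-element -/
def PE (p : ℕ) (x : G) : Prop := ∃ k : ℕ, orderOf x = p ^ k

/-- the subgroup `H` of `G` is `p`-nilpotent (ambient form): `H = T R`, `T` normal `p'`, `R` a `p`-group -/
def PNil (p : ℕ) (H : Subgroup G) : Prop :=
  ∃ T R : Subgroup G, T ≤ H ∧ R ≤ H ∧ H ≤ Nz T ∧ (Nat.card T).Coprime p ∧ IsPGroup p R ∧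
    (∀ x ∈ H, ∃ t ∈ T, ∃ r ∈ R, x = t * r) ∧ (∀ x ∈ H, PP p x → x ∈ T)

/-- the subgroup `H` of `G` is `p`-closed (ambient form) -/
def PCl (p : ℕ) (H : Subgroup G) : Prop :=
  ∃ R : Subgroup G, R ≤ H ∧ H ≤ Nz R ∧ IsPGroup p R ∧ ∀ x ∈ H, PE p x → x ∈ R

/-- a minimal counterexample to S4016 -/
structure MC (p : ℕ) [Fact p.Prime] [Finite G] (P : Sylow p G) : Prop where
  cyc : IsCyclic (P : Subgroup G)
  ab : ∀ H : Subgroup G, (Nat.card H).Coprime p → ∀ x ∈ H, ∀ y ∈ H, x * y = y * x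
  ncomp : ¬ Cfsg.HasNormalPComplement p G
  nnorm : ¬ (P : Subgroup G).Normal
  sub : ∀ H : Subgroup G, H ≠ ⊤ → PNil p H ∨ PCl p H

/-- everything known after stage 1, for all Sylow `p`-subgroups at once -/
structure Facts (p : ℕ) [Fact p.Prime] (G : Type*) [Group G] [Finite G] : Prop where
  ab : ∀ H : Subgroup G, (Nat.card H).Coprime p → ∀ x ∈ H, ∀ y ∈ H, x * y = y * x
  sub : ∀ H : Subgroup G, H ≠ ⊤ → PNil p H ∨ PCl p H
  simp : ∀ M : Subgroup G, M.Normal → M = ⊥ ∨ M = ⊤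
  zc : ∀ u : G, u ≠ 1 → Ce u ≠ ⊤
  cyc : ∀ P : Sylow p G, IsCyclic (P : Subgroup G)
  ne : ∀ P : Sylow p G, (P : Subgroup G) ≠ ⊥ ∧ (P : Subgroup G) ≠ ⊤
  ex : ∀ P : Sylow p G, ∃ x ∈ Nz (P : Subgroup G), PP p x ∧ ∃ y ∈ (P : Subgroup G), x * y ≠ y * x
  fp : ∀ P : Sylow p G, ∀ x ∈ Nz (P : Subgroup G), PP p x →
    (∃ y ∈ (P : Subgroup G), y ≠ 1 ∧ x * y = y * x) → ∀ y ∈ (P : Subgroup G), x * y = y * x
  dl : ∀ P : Sylow p G, ∀ H : Subgroup G, H ≠ ⊤ → (P : Subgroup G) ≤ H →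
    (∃ x ∈ H, x ∈ Nz (P : Subgroup G) ∧ PP p x ∧ ∃ y ∈ (P : Subgroup G), x * y ≠ y * x) →
    H ≤ Nz (P : Subgroup G)
  cy : ∀ P : Sylow p G, ∀ y ∈ (P : Subgroup G), y ≠ 1 → Ce y ≤ Nz (P : Subgroup G)
  pin : ∀ P : Sylow p G, ∀ w ∈ Nz (P : Subgroup G), PE p w → w ∈ (P : Subgroup G)

end Cfsg.Agent.Lib.Helper59.CY
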