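import Cfsg.Agent.Lib.Helper59.CY.Base

set_option autoImplicit false

namespace Cfsg.Agent.Lib.Helper59.CY

variable {G : Type*} [Group G] [Finite G] {p : ℕ} [Fact p.Prime]

theorem CA_PP {K : Subgroup G} (hKp : (Nat.card K).Coprime p) {u : G} (hu : u ∈ K) : PP p u := by
  have h1 : orderOf u ∣ Nat.card K := by
    have := orderOf_dvd_natCard (⟨u, hu⟩ : K)
    rwa [Subgroup.orderOf_mk] at this
  exact Nat.Coprime.coprime_dvd_left h1 hKp

theorem CA (F : Facts p G) (P : Sylow p G) {K : Subgroup G} (hK : K ≤ Nz (P : Subgroup G))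
    (hKp : (Nat.card K).Coprime p)
    (hfac : ∀ n ∈ Nz (P : Subgroup G), ∃ y ∈ (P : Subgroup G), ∃ k ∈ K, n = y * k)
    {u : G} (huK : u ∈ K) (hu : u ∈ Cz (P : Subgroup G)) (hu1 : u ≠ 1) :
    Ce u ≤ Nz (P : Subgroup G) := by
  obtain ⟨x, hxN, _, y, hy, hxy⟩ := F.ex P
  obtain ⟨y1, hy1, k, hk, rfl⟩ := hfac x hxN
  have hcomm : y1 * y = y * y1 := by
    haveI := F.cyc P
    obtain ⟨g, hg⟩ := IsCyclic.exists_generator (α := (P : Subgroup G))
    obtain ⟨i, hi⟩ := Subgroup.mem_zpowers_iff.mp (hg ⟨y1, hy1⟩)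
    obtain ⟨j, hj⟩ := Subgroup.mem_zpowers_iff.mp (hg ⟨y, hy⟩)
    have h := congrArg (Subtype.val) hi
    have h' := congrArg (Subtype.val) hj
    simp only [Subgroup.coe_zpow] at h h'
    rw [← h, ← h', ← zpow_add, ← zpow_add, add_comm]
  have hky : k * y ≠ y * k := by
    intro h
    apply hxy
    rw [mul_assoc, h, ← mul_assoc, hcomm, mul_assoc]
  apply F.dl P (Ce u) (F.zc u hu1)
  · intro s hs
    rw [Subgroup.mem_centralizer_iff]
    intro h hh
    rw [Set.mem_singleton_iff] at hh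
    subst hh
    exact ((Subgroup.mem_centralizer_iff.mp hu) s hs).symm
  · refine ⟨k, ?_, hK hk, CA_PP hKp hk, y, hy, hky⟩
    rw [Subgroup.mem_centralizer_iff]
    intro h hh
    rw [Set.mem_singleton_iff] at hh
    subst hh
    exact F.ab K hKp h huK k hk

end Cfsg.Agent.Lib.Helper59.CY
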