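import Cfsg.Agent.Lib.Helper59.CY.Base

set_option autoImplicit false

namespace Cfsg.Agent.Lib.Helper59.CY

variable {G : Type*} [Group G] [Finite G] {p : ℕ} [Fact p.Prime]

theorem CP (F : Facts p G) (P : Sylow p G) {K : Subgroup G} (hKp : (Nat.card K).Coprime p)
    (hfac : ∀ n ∈ Nz (P : Subgroup G), ∃ y ∈ (P : Subgroup G), ∃ k ∈ K, n = y * k)
    {u : G} (hu : u ∈ Cz (P : Subgroup G)) (hup : PP p u) : u ∈ K := by
  have hp : p.Prime := Fact.out
  have huN : u ∈ Nz (P : Subgroup G) := by
    rw [Subgroup.mem_normalizer_iff]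
    intro s
    constructor
    · intro hs
      have : u * s * u⁻¹ = s := by
        rw [← (Subgroup.mem_centralizer_iff.mp hu) s hs]; group
      rwa [this]
    · intro hs
      have h1 := (Subgroup.mem_centralizer_iff.mp hu) _ hs
      have h2 : u * s * u⁻¹ = s := by
        have : u * (u * s * u⁻¹) = u * s := by
          rw [← h1]; group
        exact mul_left_cancel this
      rwa [h2] at hs
  obtain ⟨y, hy, k, hk, hyk⟩ := hfac u huN
  have hyu : y * u = u * y := (Subgroup.mem_centralizer_iff.mp hu) y hy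
  have hcomm : Commute y k := by
    have hk' : k = y⁻¹ * u := by rw [hyk]; group
    show y * k = k * y
    rw [hk', mul_assoc, ← hyu]; group
  obtain ⟨j, hj⟩ := (IsPGroup.iff_orderOf.mp P.isPGroup') ⟨y, hy⟩
  rw [Subgroup.orderOf_mk] at hj
  have hkc : (orderOf k).Coprime p := by
    have h1 : orderOf k ∣ Nat.card K := by
      have := orderOf_dvd_natCard (⟨k, hk⟩ : K)
      rwa [Subgroup.orderOf_mk] at this
    exact Nat.Coprime.coprime_dvd_left h1 hKp
  have hcop : (orderOf y).Coprime (orderOf k) := by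
    rw [hj]; exact (Nat.Coprime.pow_right j hkc).symm
  have hord : orderOf u = orderOf y * orderOf k := by
    rw [hyk]; exact hcomm.orderOf_mul_eq_mul_orderOf_of_coprime hcop
  have hyc : (orderOf y).Coprime p := by
    unfold PP at hup
    rw [hord] at hup
    exact Nat.Coprime.coprime_mul_right hup
  have hj0 : j = 0 := by
    by_contra h
    rw [hj] at hyc
    have : p ∣ p ^ j := dvd_pow_self p h
    have h2 : p ∣ Nat.gcd (p ^ j) p := Nat.dvd_gcd this dvd_rfl
    rw [hyc] at h2
    exact hp.one_lt.ne' (Nat.dvd_one.mp h2)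
  rw [hj0, pow_zero, orderOf_eq_one_iff] at hj
  rw [hyk, hj, one_mul]
  exact hk

end Cfsg.Agent.Lib.Helper59.CY
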