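import Cfsg.Agent.Lib.Helper59.CY.Base

set_option autoImplicit false

namespace Cfsg.Agent.Lib.Helper59.CY

variable {G : Type*} [Group G] [Finite G] {p : ℕ} [Fact p.Prime]

theorem FA1 (P : Sylow 3 G) {K : Subgroup G} (hK4 : Nat.card K = 4) (hK2 : ∀ u ∈ K, u ^ 2 = 1)
    (hK0 : Nat.card (K ⊓ Cz (P : Subgroup G) : Subgroup G) = 2) :
    ∃ t s : G, orderOf t = 2 ∧ orderOf s = 2 ∧ t ∈ K ∧ s ∈ K ∧ t ∈ Cz (P : Subgroup G) ∧
      s ∉ Cz (P : Subgroup G) ∧ t * s = s * t ∧ ∀ k ∈ K, k = 1 ∨ k = t ∨ k = s ∨ k = t * s := by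
  set H : Subgroup G := K ⊓ Cz (P : Subgroup G) with hH
  have hHK : H ≤ K := inf_le_left
  obtain ⟨⟨t, htH⟩, ht1, htu⟩ := (Nat.card_eq_two_iff' (1 : H)).mp hK0
  have ht1' : t ≠ 1 := fun h => ht1 (Subtype.ext h)
  have hHel : ∀ k ∈ H, k = 1 ∨ k = t := by
    intro k hk
    by_cases h : k = 1
    · exact Or.inl h
    · right
      have := htu ⟨k, hk⟩ (fun h' => h (congrArg Subtype.val h'))
      exact congrArg Subtype.val this
  have hex : ∃ s ∈ K, s ∉ H := by
    by_contra hcon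
    push Not at hcon
    have : K = H := le_antisymm hcon hHK
    rw [this, hK0] at hK4
    omega
  obtain ⟨s, hsK, hsH⟩ := hex
  have htK : t ∈ K := hHK htH
  have hs1 : s ≠ 1 := fun h => hsH (h ▸ H.one_mem)
  have hidx : (H.subgroupOf K).index = 2 := by
    have h1 : H.relIndex K * Nat.card H = Nat.card K := by
      have h0 := Subgroup.relIndex_mul_relIndex (⊥ : Subgroup G) H K bot_le hHK
      rw [Subgroup.relIndex_bot_left, Subgroup.relIndex_bot_left] at h0
      rw [mul_comm]; exact h0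
    rw [hK0, hK4] at h1
    show H.relIndex K = 2
    omega
  have hs2 : s * s = 1 := by rw [← pow_two]; exact hK2 s hsK
  have ht2 : t * t = 1 := by rw [← pow_two]; exact hK2 t htK
  have hsi : s⁻¹ = s := inv_eq_of_mul_eq_one_left hs2
  have hti : t⁻¹ = t := inv_eq_of_mul_eq_one_left ht2
  refine ⟨t, s, orderOf_eq_prime (hK2 t htK) ht1', orderOf_eq_prime (hK2 s hsK) hs1, htK, hsK,
    (Subgroup.mem_inf.mp htH).2, fun h => hsH (Subgroup.mem_inf.mpr ⟨hsK, h⟩), ?_, ?_⟩
  · have h := hK2 (t * s) (K.mul_mem htK hsK)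
    rw [pow_two] at h
    have : t * s = (t * s)⁻¹ := eq_inv_of_mul_eq_one_left h
    rw [this, mul_inv_rev, hsi, hti]
  · intro k hk
    by_cases hkH : k ∈ H
    · rcases hHel k hkH with h | h
      · exact Or.inl h
      · exact Or.inr (Or.inl h)
    · have h1 : (⟨k, hk⟩ * ⟨s, hsK⟩ : K) ∈ H.subgroupOf K := by
        rw [Subgroup.mul_mem_iff_of_index_two hidx]
        simp only [Subgroup.mem_subgroupOf]
        exact ⟨fun h => absurd h hkH, fun h => absurd h hsH⟩
      have h2 : k * s ∈ H := h1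
      rcases hHel _ h2 with h | h
      · right; right; left
        rw [← hsi]; exact eq_inv_of_mul_eq_one_left h
      · right; right; right
        rw [← h, mul_assoc, hs2, mul_one]

end Cfsg.Agent.Lib.Helper59.CY
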