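import Cfsg.Agent.Lib.Helper59.CY.Base

set_option autoImplicit false

namespace Cfsg.Agent.Lib.Helper59.CY

variable {G : Type*} [Group G] [Finite G] {p : ℕ} [Fact p.Prime]

theorem FA2_comm {P : Subgroup G} (hc : IsCyclic P) {a b : G} (ha : a ∈ P) (hb : b ∈ P) :
    a * b = b * a := by
  obtain ⟨g, hg⟩ := IsCyclic.exists_generator (α := P)
  obtain ⟨i, hi⟩ := Subgroup.mem_zpowers_iff.mp (hg ⟨a, ha⟩)
  obtain ⟨j, hj⟩ := Subgroup.mem_zpowers_iff.mp (hg ⟨b, hb⟩)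
  have h := congrArg (Subtype.val) hi
  have h' := congrArg (Subtype.val) hj
  simp only [Subgroup.coe_zpow] at h h'
  rw [← h, ← h', ← zpow_add, ← zpow_add, add_comm]

theorem FA2 (F : Facts 3 G) (P : Sylow 3 G) {s : G} (hs : orderOf s = 2)
    (hsN : s ∈ Nz (P : Subgroup G)) (hsC : s ∉ Cz (P : Subgroup G)) :
    ∀ x ∈ (P : Subgroup G), s * x * s⁻¹ = x⁻¹ := by
  intro x hx
  have hs2 : s * s = 1 := by rw [← pow_two, ← hs, pow_orderOf_eq_one]
  have hsi : s⁻¹ = s := inv_eq_of_mul_eq_one_left hs2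
  have hx' : s * x * s⁻¹ ∈ (P : Subgroup G) := (Subgroup.mem_normalizer_iff.mp hsN x).mp hx
  have hw : x * (s * x * s⁻¹) ∈ (P : Subgroup G) := (P : Subgroup G).mul_mem hx hx'
  have hcomm : s * (x * (s * x * s⁻¹)) = (x * (s * x * s⁻¹)) * s := by
    have h1 : x * (s * x * s⁻¹) = (s * x * s⁻¹) * x := FA2_comm (F.cyc P) hx hx'
    have e1 : s * (x * (s * x * s⁻¹)) = (s * x * s⁻¹) * ((s * s) * x * s⁻¹) := by group
    have e2 : (x * (s * x * s⁻¹)) * s = (s * x * s⁻¹) * x * s := by rw [h1]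
    rw [e1, e2, hs2, hsi]; group
  have hPP : PP 3 s := by unfold PP; rw [hs]; decide
  by_contra hne
  have hw1 : x * (s * x * s⁻¹) ≠ 1 := by
    intro h
    exact hne (eq_inv_of_mul_eq_one_right h)
  have := F.fp P s hsN hPP ⟨_, hw, hw1, hcomm⟩
  apply hsC
  rw [Subgroup.mem_centralizer_iff]
  intro z hz
  exact (this z hz).symm

end Cfsg.Agent.Lib.Helper59.CY
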