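import Cfsg.Agent.Lib.Helper59.CY.Base

set_option autoImplicit false

namespace Cfsg.Agent.Lib.Helper59.CY

variable {G : Type*} [Group G] [Finite G] {p : ℕ} [Fact p.Prime]

theorem FA3 (P : Sylow 3 G) {K : Subgroup G} (hKab : ∀ x ∈ K, ∀ y ∈ K, x * y = y * x)
    (hfac : ∀ n ∈ Nz (P : Subgroup G), ∃ y ∈ (P : Subgroup G), ∃ k ∈ K, n = y * k)
    {t : G} (htK : t ∈ K) (htC : t ∈ Cz (P : Subgroup G)) (hCA : Ce t ≤ Nz (P : Subgroup G)) :
    Ce t = Nz (P : Subgroup G) := by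
  apply le_antisymm hCA
  intro n hn
  obtain ⟨y, hy, k, hk, rfl⟩ := hfac n hn
  rw [Subgroup.mem_centralizer_iff]
  intro h hh
  rw [Set.mem_singleton_iff] at hh
  subst hh
  have h1 : y * h = h * y := (Subgroup.mem_centralizer_iff.mp htC) y hy
  rw [← mul_assoc, ← h1, mul_assoc, hKab h htK k hk, mul_assoc]

end Cfsg.Agent.Lib.Helper59.CY
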