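import Cfsg.Agent.Lib.Helper59.CY.Base
import Cfsg.Agent.Lib.Helper59.CY.FA2

set_option autoImplicit false

namespace Cfsg.Agent.Lib.Helper59.CY

variable {G : Type*} [Group G] [Finite G] {p : ℕ} [Fact p.Prime]

theorem FB1_zp {t : G} (ht : orderOf t = 2) {x : G} (hx : x ∈ Subgroup.zpowers t) :
    x = 1 ∨ x = t := by
  obtain ⟨i, rfl⟩ := Subgroup.mem_zpowers_iff.mp hx
  have ht2 : t ^ (2 : ℤ) = 1 := by
    have := pow_orderOf_eq_one t
    rw [ht] at this
    exact_mod_cast this
  rcases Int.even_or_odd' i with ⟨k, hk | hk⟩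
  · left; rw [hk, zpow_mul, ht2, one_zpow]
  · right; rw [hk, zpow_add, zpow_mul, ht2, one_zpow, one_mul, zpow_one]

theorem FB1_mem {P : Subgroup G} {t : G} (ht : orderOf t = 2) (htC : t ∈ Cz P) {x : G}
    (hx : x ∈ P ⊔ Subgroup.zpowers t) : ∃ z ∈ P, x = z ∨ x = z * t := by
  have hle : Subgroup.zpowers t ≤ Subgroup.normalizer (P : Set G) := by
    rw [Subgroup.zpowers_le]
    rw [Subgroup.mem_normalizer_iff]
    intro s
    constructor
    · intro hs
      have : t * s * t⁻¹ = s := by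
        rw [← (Subgroup.mem_centralizer_iff.mp htC) s hs]; group
      rwa [this]
    · intro hs
      have h1 := (Subgroup.mem_centralizer_iff.mp htC) _ hs
      have h2 : t * s * t⁻¹ = s := by
        have : t * (t * s * t⁻¹) = t * s := by
          rw [← h1]; group
        exact mul_left_cancel this
      rwa [h2] at hs
  have h := Subgroup.coe_mul_of_right_le_normalizer_left P (Subgroup.zpowers t) hle
  have hx' : x ∈ ((P ⊔ Subgroup.zpowers t : Subgroup G) : Set G) := hx
  rw [h] at hx'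
  obtain ⟨z, hz, w, hw, hzw⟩ := hx'
  have hzw' : z * w = x := hzw
  refine ⟨z, hz, ?_⟩
  rcases FB1_zp ht hw with h | h
  · left; rw [← hzw', h, mul_one]
  · right; rw [← hzw', h]

theorem FB1_sq_eq_one (P : Sylow 3 G) {z : G} (hz : z ∈ (P : Subgroup G)) (h2 : z * z = 1) :
    z = 1 := by
  obtain ⟨k, hk⟩ := (IsPGroup.iff_orderOf.mp P.isPGroup') ⟨z, hz⟩
  rw [Subgroup.orderOf_mk] at hk
  have h1 : orderOf z ∣ 2 := orderOf_dvd_of_pow_eq_one (by rw [pow_two]; exact h2)
  have h3 : (orderOf z).Coprime 2 := by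
    rw [hk]; exact Nat.Coprime.pow_left k (by decide)
  have : orderOf z = 1 := Nat.Coprime.eq_one_of_dvd h3 h1
  exact orderOf_eq_one_iff.mp this

theorem FB1 (P : Sylow 3 G) (hcyc : IsCyclic (P : Subgroup G)) {t s : G} (ht : orderOf t = 2)
    (hs : orderOf s = 2) (htC : t ∈ Cz (P : Subgroup G)) (hsC : s ∉ Cz (P : Subgroup G))
    (hts : t * s = s * t) (hinv : ∀ x ∈ (P : Subgroup G), s * x * s⁻¹ = x⁻¹) :
    IsMulCommutative ↥((P : Subgroup G) ⊔ Subgroup.zpowers t) ∧
    (P : Subgroup G) ⊔ Subgroup.zpowers t ≤ Ce t ∧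
    t ∈ (P : Subgroup G) ⊔ Subgroup.zpowers t ∧
    s ∉ (P : Subgroup G) ⊔ Subgroup.zpowers t ∧
    (∀ x ∈ (P : Subgroup G) ⊔ Subgroup.zpowers t, s * x * s⁻¹ = x⁻¹) ∧
    ((P : Subgroup G) ⊔ Subgroup.zpowers t) ⊓ Ce s = Subgroup.zpowers t := by
  have ht2 : t * t = 1 := by rw [← pow_two, ← ht, pow_orderOf_eq_one]
  have hti : t⁻¹ = t := inv_eq_of_mul_eq_one_left ht2
  have hzt : ∀ z ∈ (P : Subgroup G), z * t = t * z := Subgroup.mem_centralizer_iff.mp htC
  have hPc : ∀ a ∈ (P : Subgroup G), ∀ b ∈ (P : Subgroup G), a * b = b * a :=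
    fun a ha b hb => FA2_comm hcyc ha hb
  have htA : t ∈ (P : Subgroup G) ⊔ Subgroup.zpowers t :=
    (le_sup_right : Subgroup.zpowers t ≤ _) (Subgroup.mem_zpowers t)
  have hcomm : ∀ a ∈ (P : Subgroup G) ⊔ Subgroup.zpowers t,
      ∀ b ∈ (P : Subgroup G) ⊔ Subgroup.zpowers t, a * b = b * a := by
    intro a ha b hb
    obtain ⟨z, hz, h1⟩ := FB1_mem ht htC ha
    obtain ⟨w, hw, h2⟩ := FB1_mem ht htC hb
    have hzw := hPc z hz w hw
    have hz' := hzt z hz
    have hw' := hzt w hw
    rcases h1 with rfl | rfl <;> rcases h2 with rfl | rfl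
    · exact hzw
    · rw [← mul_assoc, hzw, mul_assoc, hz', ← mul_assoc]
    · rw [mul_assoc, ← hw', ← mul_assoc, hzw, mul_assoc]
    · calc z * t * (w * t) = z * (t * w) * t := by group
        _ = z * (w * t) * t := by rw [hw']
        _ = (z * w) * t * t := by group
        _ = (w * z) * t * t := by rw [hzw]
        _ = w * (z * t) * t := by group
        _ = w * (t * z) * t := by rw [hz']
        _ = w * t * (z * t) := by group
  have hinvA : ∀ x ∈ (P : Subgroup G) ⊔ Subgroup.zpowers t, s * x * s⁻¹ = x⁻¹ := by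
    intro x hx
    obtain ⟨z, hz, h1⟩ := FB1_mem ht htC hx
    rcases h1 with rfl | rfl
    · exact hinv x hz
    · have e : s * (z * t) * s⁻¹ = (s * z * s⁻¹) * (s * t * s⁻¹) := by group
      have e2 : s * t * s⁻¹ = t := by rw [← hts]; group
      rw [e, hinv z hz, e2, mul_inv_rev, hti]
      have := hzt z⁻¹ ((P : Subgroup G).inv_mem hz)
      exact this
  refine ⟨⟨⟨fun a b => Subtype.ext (hcomm a a.2 b b.2)⟩⟩, ?_, htA, ?_, hinvA, ?_⟩
  · intro x hx
    rw [Subgroup.mem_centralizer_iff]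
    intro h hh
    rw [Set.mem_singleton_iff] at hh
    subst hh
    exact hcomm h htA x hx
  · intro hsA
    apply hsC
    rw [Subgroup.mem_centralizer_iff]
    intro z hz
    exact hcomm z ((le_sup_left : (P : Subgroup G) ≤ _) hz) s hsA
  · apply le_antisymm
    · intro w hw
      obtain ⟨hwA, hwC⟩ := Subgroup.mem_inf.mp hw
      have h1 : s * w = w * s := (Subgroup.mem_centralizer_iff.mp hwC) s rfl
      have h2 : w = w⁻¹ := by
        rw [← hinvA w hwA, h1]; group
      have h3 : w * w = 1 := by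
        nth_rewrite 2 [h2]; exact mul_inv_cancel w
      obtain ⟨z, hz, h4⟩ := FB1_mem ht htC hwA
      rcases h4 with rfl | rfl
      · rw [FB1_sq_eq_one P hz h3]; exact Subgroup.one_mem _
      · have : z * z = 1 := by
          have e : z * t * (z * t) = z * (t * z) * t := by group
          rw [e, ← hzt z hz] at h3
          have e2 : z * (z * t) * t = z * z * (t * t) := by group
          rw [e2, ht2, mul_one] at h3
          exact h3
        rw [FB1_sq_eq_one P hz this, one_mul]; exact Subgroup.mem_zpowers t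
    · rw [Subgroup.zpowers_le]
      refine Subgroup.mem_inf.mpr ⟨htA, ?_⟩
      rw [Subgroup.mem_centralizer_iff]
      intro h hh
      rw [Set.mem_singleton_iff] at hh
      subst hh
      exact hts.symm

end Cfsg.Agent.Lib.Helper59.CY
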