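import Cfsg.Agent.Lib.Helper59.CY.Base

set_option autoImplicit false

namespace Cfsg.Agent.Lib.Helper59.CY

variable {G : Type*} [Group G] [Finite G] {p : ℕ} [Fact p.Prime]

theorem FB2 (P : Sylow 3 G) {K : Subgroup G}
    (hK : K ≤ Nz (P : Subgroup G))
    (hfac : ∀ n ∈ Nz (P : Subgroup G), ∃ y ∈ (P : Subgroup G), ∃ k ∈ K, n = y * k)
    {t s : G} (htK : t ∈ K) (hsK : s ∈ K) (hall : ∀ k ∈ K, k = 1 ∨ k = t ∨ k = s ∨ k = t * s)
    (hCt : Ce t = Nz (P : Subgroup G)) :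
    ((P : Subgroup G) ⊔ Subgroup.zpowers t) ⊔ Subgroup.zpowers s = Ce t := by
  rw [hCt]
  apply le_antisymm
  · refine sup_le (sup_le Subgroup.le_normalizer ?_) ?_
    · rw [Subgroup.zpowers_le]; exact hK htK
    · rw [Subgroup.zpowers_le]; exact hK hsK
  · intro n hn
    obtain ⟨y, hy, k, hk, rfl⟩ := hfac n hn
    have hP : (P : Subgroup G) ≤ ((P : Subgroup G) ⊔ Subgroup.zpowers t) ⊔ Subgroup.zpowers s :=
      le_sup_left.trans le_sup_left
    have ht : t ∈ ((P : Subgroup G) ⊔ Subgroup.zpowers t) ⊔ Subgroup.zpowers s :=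
      (le_sup_right.trans le_sup_left : Subgroup.zpowers t ≤ _) (Subgroup.mem_zpowers t)
    have hs : s ∈ ((P : Subgroup G) ⊔ Subgroup.zpowers t) ⊔ Subgroup.zpowers s :=
      (le_sup_right : Subgroup.zpowers s ≤ _) (Subgroup.mem_zpowers s)
    apply Subgroup.mul_mem _ (hP hy)
    rcases hall k hk with h | h | h | h
    · rw [h]; exact Subgroup.one_mem _
    · rw [h]; exact ht
    · rw [h]; exact hs
    · rw [h]; exact Subgroup.mul_mem _ ht hs

end Cfsg.Agent.Lib.Helper59.CY
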