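import Cfsg.Agent.Lib.Helper59.CY.Base

set_option autoImplicit false

namespace Cfsg.Agent.Lib.Helper59.CY

variable {G : Type*} [Group G] [Finite G] {p : ℕ} [Fact p.Prime]

theorem K5_mem_Nz {H : Subgroup G} {y : G} (h : ∀ s ∈ H, y * s * y⁻¹ ∈ H) : y ∈ Nz H := by
  have hpow : ∀ n : ℕ, ∀ s ∈ H, y ^ n * s * (y ^ n)⁻¹ ∈ H := by
    intro n
    induction n with
    | zero => intro s hs; simpa using hs
    | succ n ih =>
      intro s hs
      have := h _ (ih s hs)
      have e : y ^ (n + 1) * s * (y ^ (n + 1))⁻¹ = y * (y ^ n * s * (y ^ n)⁻¹) * y⁻¹ := by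
        rw [pow_succ']; group
      rw [e]; exact this
  have hinv : y ^ (orderOf y - 1) = y⁻¹ := by
    apply eq_inv_of_mul_eq_one_left
    rw [← pow_succ, Nat.sub_add_cancel (orderOf_pos y), pow_orderOf_eq_one]
  rw [Subgroup.mem_normalizer_iff]
  intro s
  refine ⟨h s, fun hs => ?_⟩
  have := hpow (orderOf y - 1) _ hs
  rw [hinv] at this
  have e : y⁻¹ * (y * s * y⁻¹) * y⁻¹⁻¹ = s := by group
  rwa [e] at this

theorem K5 (F : Facts p G) (P : Sylow p G) {K : Subgroup G}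
    {y : G} (hy : orderOf y = p) (hfK : ∀ u ∈ K, y * u = u * y → u = 1)
    (hCA : ∀ u ∈ K, u ∈ Cz (P : Subgroup G) → u ≠ 1 → Ce u ≤ Nz (P : Subgroup G)) :
    ∀ a ∈ K, a ∈ Cz (P : Subgroup G) → y⁻¹ * a * y ∈ Cz (P : Subgroup G) → a = 1 := by
  intro a haK haC hyC
  by_contra ha1
  have hCe := hCA a haK haC ha1
  have hyN : y ∈ Nz (P : Subgroup G) := by
    apply K5_mem_Nz
    intro s hs
    apply F.pin P
    · apply hCe
      rw [Subgroup.mem_centralizer_iff]
      intro h hh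
      rw [Set.mem_singleton_iff] at hh
      subst hh
      have := (Subgroup.mem_centralizer_iff.mp hyC) s hs
      -- s * (y⁻¹ a y) = (y⁻¹ a y) * s
      have e1 : h * (y * s * y⁻¹) = y * ((y⁻¹ * h * y) * s) * y⁻¹ := by group
      have e2 : y * s * y⁻¹ * h = y * (s * (y⁻¹ * h * y)) * y⁻¹ := by group
      rw [e1, e2, this]
    · obtain ⟨k, hk⟩ := (IsPGroup.iff_orderOf.mp P.isPGroup') ⟨s, hs⟩
      refine ⟨k, ?_⟩
      have : orderOf (y * s * y⁻¹) = orderOf s := by
        have := orderOf_injective (MulAut.conj y).toMonoidHom (MulAut.conj y).injective s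
        simpa using this
      rw [this, ← hk, Subgroup.orderOf_mk]
  have hyP : y ∈ (P : Subgroup G) := F.pin P y hyN ⟨1, by rw [hy, pow_one]⟩
  exact ha1 (hfK a haK ((Subgroup.mem_centralizer_iff.mp haC) y hyP))

end Cfsg.Agent.Lib.Helper59.CY
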