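import Cfsg.Agent.Lib.Helper59.CY.Base
import Cfsg.Agent.Lib.Helper59.CY.FB1
import Cfsg.Agent.Lib.Helper59.CY.K5

set_option autoImplicit false

namespace Cfsg.Agent.Lib.Helper59.CY

variable {G : Type*} [Group G] [Finite G] {p : ℕ} [Fact p.Prime]

theorem FB3 (F : Facts 3 G) (P : Sylow 3 G) {t : G} (ht : orderOf t = 2)
    (htC : t ∈ Cz (P : Subgroup G)) (hCt : Ce t = Nz (P : Subgroup G)) :
    ∀ g : G, g ∉ Ce t → ((P : Subgroup G) ⊔ Subgroup.zpowers t) ⊓
      ((P : Subgroup G) ⊔ Subgroup.zpowers t).map (MulAut.conj g).toMonoidHom = ⊥ := by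
  intro g hg
  have ht2 : t * t = 1 := by rw [← pow_two, ← ht, pow_orderOf_eq_one]
  have ht1 : t ≠ 1 := by
    intro h; rw [h, orderOf_one] at ht; omega
  have hzt : ∀ z ∈ (P : Subgroup G), z * t = t * z := Subgroup.mem_centralizer_iff.mp htC
  have hsq : ∀ z ∈ (P : Subgroup G), (z * t) * (z * t) = z * z := by
    intro z hz
    have e : z * t * (z * t) = z * (t * z) * t := by group
    rw [e, ← hzt z hz]
    have e2 : z * (z * t) * t = z * z * (t * t) := by group
    rw [e2, ht2, mul_one]
  rw [Subgroup.eq_bot_iff_forall]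
  intro w hw
  obtain ⟨hwA, hwB⟩ := Subgroup.mem_inf.mp hw
  obtain ⟨v, hvA, hvw⟩ := Subgroup.mem_map.mp hwB
  have hvw' : g * v * g⁻¹ = w := by simpa using hvw
  obtain ⟨z, hz, h1⟩ := FB1_mem ht htC hwA
  obtain ⟨z', hz', h2⟩ := FB1_mem ht htC hvA
  have hw2 : w * w = z * z := by
    rcases h1 with h | h
    · rw [h]
    · rw [h]; exact hsq z hz
  have hv2 : v * v = z' * z' := by
    rcases h2 with h | h
    · rw [h]
    · rw [h]; exact hsq z' hz'
  have hconj : g * (z' * z') * g⁻¹ = z * z := by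
    rw [← hv2, ← hw2, ← hvw']; group
  by_contra hw1
  by_cases hz1 : z = 1
  · -- w = t
    have hwt : w = t := by
      rcases h1 with h | h
      · exact absurd (h.trans hz1) hw1
      · rw [h, hz1, one_mul]
    have hz'1 : z' = 1 := by
      apply FB1_sq_eq_one P hz'
      rw [hz1, mul_one] at hconj
      have : z' * z' = g⁻¹ * (g * (z' * z') * g⁻¹) * g := by group
      rw [this, hconj]; group
    have hvt : v = t := by
      rcases h2 with h | h
      · exfalso
        apply hw1
        rw [← hvw', h, hz'1]; group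
      · rw [h, hz'1, one_mul]
    apply hg
    rw [Subgroup.mem_centralizer_iff]
    intro h hh
    rw [Set.mem_singleton_iff] at hh
    subst hh
    rw [hvt, hwt] at hvw'
    -- g * t * g⁻¹ = t
    have : g * h = (g * h * g⁻¹) * g := by group
    rw [this, hvw']
  · have hzz1 : z * z ≠ 1 := fun h => hz1 (FB1_sq_eq_one P hz h)
    have hzzP : z * z ∈ (P : Subgroup G) := (P : Subgroup G).mul_mem hz hz
    have hCe := F.cy P (z * z) hzzP hzz1
    apply hg
    rw [hCt]
    apply K5_mem_Nz
    intro x hx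
    apply F.pin P
    · apply hCe
      rw [Subgroup.mem_centralizer_iff]
      intro h hh
      rw [Set.mem_singleton_iff] at hh
      subst hh
      rw [← hconj]
      have hc : (z' * z') * x = x * (z' * z') :=
        FA2_comm (F.cyc P) ((P : Subgroup G).mul_mem hz' hz') hx
      have e1 : g * (z' * z') * g⁻¹ * (g * x * g⁻¹) = g * ((z' * z') * x) * g⁻¹ := by group
      have e2 : g * x * g⁻¹ * (g * (z' * z') * g⁻¹) = g * (x * (z' * z')) * g⁻¹ := by group
      rw [e1, e2, hc]
    · obtain ⟨k, hk⟩ := (IsPGroup.iff_orderOf.mp P.isPGroup') ⟨x, hx⟩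
      refine ⟨k, ?_⟩
      have : orderOf (g * x * g⁻¹) = orderOf x := by
        have := orderOf_injective (MulAut.conj g).toMonoidHom (MulAut.conj g).injective x
        simpa using this
      rw [this, ← hk, Subgroup.orderOf_mk]

end Cfsg.Agent.Lib.Helper59.CY
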