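import Cfsg.Agent.Lib.Helper59.CY.Base

set_option autoImplicit false

namespace Cfsg.Agent.Lib.Helper59.CY

variable {G : Type*} [Group G] [Finite G] {p : ℕ} [Fact p.Prime]

theorem FB4 {K : Subgroup G} (Q : Sylow 2 G) (hQK : (Q : Subgroup G) = K)
    {t s : G} (ht : orderOf t = 2) (htK : t ∈ K)
    (hall : ∀ k ∈ K, k = 1 ∨ k = t ∨ k = s ∨ k = t * s)
    {y : G} (hy : orderOf y = 3) (hyK : y ∈ Nz K) (hf : ∀ u ∈ K, y * u = u * y → u = 1) :
    ∀ a b : G, orderOf a = 2 → orderOf b = 2 → IsConj a b := by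
  have ht1 : t ≠ 1 := by
    intro h; rw [h, orderOf_one] at ht; omega
  have hy3 : y * y * y = 1 := by
    have := pow_orderOf_eq_one y
    rw [hy] at this
    rw [← this, pow_succ, pow_two]
  have hconjK : ∀ u ∈ K, y * u * y⁻¹ ∈ K := fun u hu => (Subgroup.mem_normalizer_iff.mp hyK u).mp hu
  have hne : ∀ u ∈ K, u ≠ 1 → y * u * y⁻¹ ≠ u := by
    intro u hu hu1 h
    apply hu1
    apply hf u hu
    have : y * u = (y * u * y⁻¹) * y := by group
    rw [this, h]
  have hne1 : ∀ u : G, u ≠ 1 → y * u * y⁻¹ ≠ 1 := by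
    intro u hu1 h
    apply hu1
    have : u = y⁻¹ * (y * u * y⁻¹) * y := by group
    rw [this, h]; group
  set t1 := y * t * y⁻¹ with ht1def
  set t2 := y * t1 * y⁻¹ with ht2def
  have ht1K : t1 ∈ K := hconjK t htK
  have ht2K : t2 ∈ K := hconjK t1 ht1K
  have h1a : t1 ≠ t := hne t htK ht1
  have h1b : t1 ≠ 1 := hne1 t ht1
  have h2a : t2 ≠ t1 := hne t1 ht1K h1b
  have h2b : t2 ≠ 1 := hne1 t1 h1b
  have h2c : t2 ≠ t := by
    intro h
    -- y t2 y⁻¹ = t (as y^3 = 1), so y t y⁻¹ = t
    have e : y * t2 * y⁻¹ = t := by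
      have : y * t2 * y⁻¹ = (y * y * y) * t * (y * y * y)⁻¹ := by
        rw [ht2def, ht1def]; group
      rw [this, hy3]; group
    rw [h] at e
    exact h1a e
  have hc1 : IsConj t t1 := isConj_iff.mpr ⟨y, rfl⟩
  have hc2 : IsConj t t2 := hc1.trans (isConj_iff.mpr ⟨y, rfl⟩)
  have hKconj : ∀ k ∈ K, k ≠ 1 → IsConj t k := by
    intro k hk hk1
    rcases hall k hk with h | h | h | h
    · exact absurd h hk1
    · rw [h]
    · rcases hall t1 ht1K with h' | h' | h' | h'
      · exact absurd h' h1b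
      · exact absurd h' h1a
      · rw [h, ← h']; exact hc1
      · rcases hall t2 ht2K with h'' | h'' | h'' | h''
        · exact absurd h'' h2b
        · exact absurd h'' h2c
        · rw [h, ← h'']; exact hc2
        · exact absurd (h''.trans h'.symm) h2a
    · rcases hall t1 ht1K with h' | h' | h' | h'
      · exact absurd h' h1b
      · exact absurd h' h1a
      · rcases hall t2 ht2K with h'' | h'' | h'' | h''
        · exact absurd h'' h2b
        · exact absurd h'' h2c
        · exact absurd (h''.trans h'.symm) h2a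
        · rw [h, ← h'']; exact hc2
      · rw [h, ← h']; exact hc1
  have hinv : ∀ a : G, orderOf a = 2 → IsConj t a := by
    intro a ha
    have ha1 : a ≠ 1 := by
      intro h; rw [h, orderOf_one] at ha; omega
    have hz : IsPGroup 2 (Subgroup.zpowers a) := by
      rw [IsPGroup.iff_card]
      exact ⟨1, by rw [Nat.card_zpowers, ha, pow_one]⟩
    obtain ⟨Q', hQ'⟩ := hz.exists_le_sylow
    obtain ⟨g, hg⟩ := MulAction.exists_smul_eq G Q' Q
    have haQ' : a ∈ (Q' : Subgroup G) := hQ' (Subgroup.mem_zpowers a)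
    have h1 : g * a * g⁻¹ ∈ K := by
      rw [← hQK, ← hg, Sylow.coe_subgroup_smul]
      have := Subgroup.smul_mem_pointwise_smul a (MulAut.conj g) (Q' : Subgroup G) haQ'
      simpa using this
    have h2 : g * a * g⁻¹ ≠ 1 := by
      intro h
      apply ha1
      have : a = g⁻¹ * (g * a * g⁻¹) * g := by group
      rw [this, h]; group
    exact (hKconj _ h1 h2).trans (isConj_iff.mpr ⟨g, rfl⟩ : IsConj a (g * a * g⁻¹)).symm
  intro a b ha hb
  exact (hinv a ha).symm.trans (hinv b hb)

end Cfsg.Agent.Lib.Helper59.CY
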