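import Cfsg.Agent.Lib.Helper59.CY.Base
import Cfsg.Agent.Lib.Helper59.CY.FB1
import Cfsg.Agent.Lib.Helper59.CY.K5
import Cfsg.Agent.Lib.Helper22.SupLemmas

set_option autoImplicit false

namespace Cfsg.Agent.Lib.Helper59.CY

variable {G : Type*} [Group G] [Finite G] {p : ℕ} [Fact p.Prime]

theorem FC (F : Facts 3 G)
    (ht : ∀ P : Sylow 3 G, ∃ t : G, orderOf t = 2 ∧ t ∈ Cz (P : Subgroup G))
    (hBSW : ∃ Q D : Subgroup G, 2 * Nat.card G = Nat.card ↥Q * (Nat.card ↥Q + 1) * (Nat.card ↥Q - 1) ∧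
      (∀ x ∈ Q, x ≠ 1 → Subgroup.centralizer ({x} : Set G) = Q) ∧
      IsMulCommutative ↥D ∧ 2 * Nat.card ↥D + 1 = Nat.card ↥Q ∧ Q ⊓ D = ⊥ ∧
      Subgroup.normalizer (Q : Set G) = Q ⊔ D ∧
      ∀ X : Subgroup G, X ≤ D → X ≠ ⊥ →
        Subgroup.normalizer (X : Set G) = Subgroup.normalizer (D : Set G) ∧
        ∃ u : G, orderOf u = 2 ∧ u ∉ D ∧ (∀ d ∈ D, u * d * u⁻¹ = d⁻¹) ∧
          Subgroup.normalizer (D : Set G) = D ⊔ Subgroup.zpowers u) : False := by
  obtain ⟨Q, D, _, hCQ, hDc, hcard, hQD, hNQ, hX⟩ := hBSW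
  have h3 : Nat.Prime 3 := by norm_num
  have hDpos : 0 < Nat.card D := Nat.card_pos
  -- Step 1
  have hQ3 : ¬ 3 ∣ Nat.card Q := by
    intro h
    obtain ⟨⟨y0, hy0Q⟩, hy0⟩ := exists_prime_orderOf_dvd_card' (G := Q) 3 h
    rw [Subgroup.orderOf_mk] at hy0
    have hy01 : y0 ≠ 1 := by
      intro h; rw [h, orderOf_one] at hy0; omega
    have hz : IsPGroup 3 (Subgroup.zpowers y0) := by
      rw [IsPGroup.iff_card]
      exact ⟨1, by rw [Nat.card_zpowers, hy0, pow_one]⟩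
    obtain ⟨P', hP'⟩ := hz.exists_le_sylow
    obtain ⟨t', ht'2, ht'C⟩ := ht P'
    have h1 : t' ∈ Subgroup.centralizer ({y0} : Set G) := by
      rw [Subgroup.mem_centralizer_iff]
      intro h hh
      rw [Set.mem_singleton_iff] at hh
      subst hh
      exact (Subgroup.mem_centralizer_iff.mp ht'C) h (hP' (Subgroup.mem_zpowers h))
    rw [hCQ y0 hy0Q hy01] at h1
    have h2 : 2 ∣ Nat.card Q := by
      have := orderOf_dvd_natCard (⟨t', h1⟩ : Q)
      rwa [Subgroup.orderOf_mk, ht'2] at this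
    omega
  -- a nontrivial element of Q
  have hQne : ∃ x0 ∈ Q, x0 ≠ 1 := by
    by_contra hcon
    push Not at hcon
    have : Q = ⊥ := (Subgroup.eq_bot_iff_forall Q).mpr hcon
    rw [this, Subgroup.card_bot] at hcard
    omega
  obtain ⟨x0, hx0Q, hx01⟩ := hQne
  have hDN : D ≤ Subgroup.normalizer (Q : Set G) := by rw [hNQ]; exact le_sup_right
  -- Step 2
  have hPP1 : ∀ d ∈ D, PP 3 d → d = 1 := by
    intro d hd hdPP
    have hle : Subgroup.zpowers d ≤ Subgroup.normalizer (Q : Set G) := by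
      rw [Subgroup.zpowers_le]; exact hDN hd
    have hnd : ¬ 3 ∣ Nat.card (Q ⊔ Subgroup.zpowers d : Subgroup G) := by
      apply Cfsg.Agent.Lib.Helper22.not_dvd_card_sup h3 hle hQ3
      rw [Nat.card_zpowers]
      intro h
      unfold PP at hdPP
      have := Nat.dvd_gcd h (dvd_refl 3)
      rw [hdPP] at this
      omega
    have hab := F.ab _ ((Nat.Prime.coprime_iff_not_dvd h3).mpr hnd).symm
    have hc := hab x0 ((le_sup_left : Q ≤ _) hx0Q) d
      ((le_sup_right : Subgroup.zpowers d ≤ _) (Subgroup.mem_zpowers d))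
    have h1 : d ∈ Subgroup.centralizer ({x0} : Set G) := by
      rw [Subgroup.mem_centralizer_iff]
      intro h hh
      rw [Set.mem_singleton_iff] at hh
      subst hh
      exact hc
    rw [hCQ x0 hx0Q hx01] at h1
    have : d ∈ Q ⊓ D := Subgroup.mem_inf.mpr ⟨h1, hd⟩
    rw [hQD] at this
    exact Subgroup.mem_bot.mp this
  have hD3 : IsPGroup 3 D := by
    intro d
    obtain ⟨k, m, hm, hkm⟩ := Nat.exists_eq_pow_mul_and_not_dvd (orderOf_pos (d : G)).ne' 3 (by norm_num)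
    refine ⟨k, ?_⟩
    have h1 : orderOf ((d : G) ^ (3 ^ k)) = m := by
      rw [orderOf_pow_of_dvd (pow_ne_zero _ (by norm_num)) (by rw [hkm]; exact dvd_mul_right _ _), hkm,
        Nat.mul_div_cancel_left _ (pow_pos (by norm_num) k)]
    have h2 := hPP1 _ (D.pow_mem d.2 (3 ^ k))
      (by unfold PP; rw [h1]; exact ((Nat.Prime.coprime_iff_not_dvd h3).mpr hm).symm)
    exact Subtype.ext (by simpa using h2)
  -- Step 3
  have hDne : ∃ d ∈ D, d ≠ 1 := by
    by_contra hcon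
    push Not at hcon
    have : D = ⊥ := (Subgroup.eq_bot_iff_forall D).mpr hcon
    rw [this, Subgroup.card_bot] at hcard
    apply hQ3
    rw [← hcard]
  obtain ⟨d, hdD, hd1⟩ := hDne
  obtain ⟨P', hP'⟩ := hD3.exists_le_sylow
  obtain ⟨t', ht'2, ht'C⟩ := ht P'
  have hcomm : d * t' = t' * d := (Subgroup.mem_centralizer_iff.mp ht'C) d (hP' hdD)
  have hZle : Subgroup.zpowers d ≤ D := by rw [Subgroup.zpowers_le]; exact hdD
  have hZne : Subgroup.zpowers d ≠ ⊥ := by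
    intro h
    exact hd1 (Subgroup.zpowers_eq_bot.mp h)
  obtain ⟨hNX, u, hu2, huD, huinv, hND⟩ := hX _ hZle hZne
  have ht'N : t' ∈ Subgroup.normalizer ((Subgroup.zpowers d : Subgroup G) : Set G) := by
    apply K5_mem_Nz
    intro s hs
    obtain ⟨i, rfl⟩ := Subgroup.mem_zpowers_iff.mp hs
    have : t' * d ^ i * t'⁻¹ = d ^ i := by
      rw [← conj_zpow]
      have : t' * d * t'⁻¹ = d := by rw [← hcomm]; group
      rw [this]
    rw [this]
    exact Subgroup.zpow_mem_zpowers d i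
  rw [hNX, hND] at ht'N
  have huN : Subgroup.zpowers u ≤ Subgroup.normalizer (D : Set G) := by
    rw [Subgroup.zpowers_le]
    apply K5_mem_Nz
    intro s hs
    rw [huinv s hs]; exact D.inv_mem hs
  obtain ⟨d2, hd2, w, hw, hdw⟩ := (Cfsg.Agent.Lib.Helper22.mem_sup_of_le_normalizer huN).mp ht'N
  have hd_sq : ∀ z ∈ D, z * z = 1 → z = 1 := by
    intro z hz h2
    exact FB1_sq_eq_one P' (hP' hz) h2
  have ht'1 : t' ≠ 1 := by
    intro h; rw [h, orderOf_one] at ht'2; omega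
  have ht'sq : t' * t' = 1 := by rw [← pow_two, ← ht'2, pow_orderOf_eq_one]
  rcases FB1_zp hu2 hw with h | h
  · rw [h, mul_one] at hdw
    apply ht'1
    apply hd_sq t' (hdw ▸ hd2) ht'sq
  · rw [h] at hdw
    apply hd1
    apply hd_sq d hdD
    have e1 : t' * d * t'⁻¹ = d := by rw [← hcomm]; group
    have e2 : t' * d * t'⁻¹ = d⁻¹ := by
      rw [← hdw]
      have : d2 * u * d * (d2 * u)⁻¹ = d2 * (u * d * u⁻¹) * d2⁻¹ := by group
      rw [this, huinv d hdD]
      have hc : d2 * d⁻¹ = d⁻¹ * d2 := by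
        have := hDc.is_comm.comm ⟨d2, hd2⟩ ⟨d⁻¹, D.inv_mem hdD⟩
        exact congrArg Subtype.val this
      rw [hc]; group
    have : d = d⁻¹ := e1.symm.trans e2
    nth_rewrite 2 [this]
    exact mul_inv_cancel d

end Cfsg.Agent.Lib.Helper59.CY
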