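import Cfsg.Agent.Lib.Helper59.CY.Base

set_option autoImplicit false

namespace Cfsg.Agent.Lib.Helper59.CY

variable {G : Type*} [Group G] [Finite G] {p : ℕ} [Fact p.Prime]

theorem inf_bot_of_pgroup_coprime {S T : Subgroup G} (hSp : IsPGroup p S)
    (hT : (Nat.card T).Coprime p) : S ⊓ T = ⊥ := by
  obtain ⟨n, hn⟩ := IsPGroup.iff_card.mp hSp
  apply Subgroup.inf_eq_bot_of_coprime
  rw [hn]
  exact (Nat.Coprime.pow_right n hT).symm

-- G1
theorem pnil_cent {H S : Subgroup G} (hH : PNil p H) (hS : S ≤ H) (hSp : IsPGroup p S) {x : G}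
    (hx : x ∈ H) (hxp : PP p x) (hxS : x ∈ Nz S) : ∀ s ∈ S, x * s = s * x := by
  obtain ⟨T, R, hT, hR, hN, hTp, hRp, hfac, hall⟩ := hH
  intro s hs
  have hxT : x ∈ T := hall x hx hxp
  have h1 : x * s * x⁻¹ * s⁻¹ ∈ S :=
    S.mul_mem ((Subgroup.mem_normalizer_iff.mp hxS s).mp hs) (S.inv_mem hs)
  have h2 : x * s * x⁻¹ * s⁻¹ ∈ T := by
    have h3 : s * x⁻¹ * s⁻¹ ∈ T :=
      (Subgroup.mem_normalizer_iff.mp (hN (hS hs)) x⁻¹).mp (T.inv_mem hxT)
    have : x * s * x⁻¹ * s⁻¹ = x * (s * x⁻¹ * s⁻¹) := by group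
    rw [this]
    exact T.mul_mem hxT h3
  have h4 : x * s * x⁻¹ * s⁻¹ ∈ S ⊓ T := ⟨h1, h2⟩
  rw [inf_bot_of_pgroup_coprime hSp hTp, Subgroup.mem_bot] at h4
  have : x * s = (x * s * x⁻¹ * s⁻¹) * (s * x) := by group
  rw [this, h4, one_mul]

theorem PE_of_mem_pgroup {R : Subgroup G} (hR : IsPGroup p R) {x : G} (hx : x ∈ R) : PE p x := by
  obtain ⟨k, hk⟩ := hR ⟨x, hx⟩
  have h1 : x ^ p ^ k = 1 := by
    have := congrArg Subtype.val hk
    simpa using this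
  obtain ⟨j, -, hj⟩ := (Nat.dvd_prime_pow Fact.out).mp (orderOf_dvd_of_pow_eq_one h1)
  exact ⟨j, hj⟩

-- G2
theorem pcl_norm (P : Sylow p G) {H : Subgroup G} (hH : PCl p H) (hP : (P : Subgroup G) ≤ H) :
    H ≤ Nz (P : Subgroup G) := by
  obtain ⟨R, hR, hN, hRp, hall⟩ := hH
  have h1 : (P : Subgroup G) ≤ R := fun x hx => hall x (hP hx) (PE_of_mem_pgroup P.2 hx)
  have h2 : R = (P : Subgroup G) := P.3 hRp h1
  rw [← h2]
  exact hN

-- G3
theorem pin (P : Sylow p G) {w : G} (hw : w ∈ Nz (P : Subgroup G)) (hwp : PE p w) :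
    w ∈ (P : Subgroup G) := by
  obtain ⟨k, hk⟩ := hwp
  have hz : IsPGroup p (Subgroup.zpowers w) := by
    apply IsPGroup.of_card (n := k)
    rw [Nat.card_zpowers, hk]
  have hle : Subgroup.zpowers w ≤ Nz (P : Subgroup G) := by
    rw [Subgroup.zpowers_le]; exact hw
  have h1 : IsPGroup p (Subgroup.zpowers w ⊔ (P : Subgroup G) : Subgroup G) :=
    IsPGroup.to_sup_of_normal_right' hz P.2 hle
  have h2 := P.3 h1 le_sup_right
  rw [← h2]
  exact (le_sup_left : Subgroup.zpowers w ≤ _) (Subgroup.mem_zpowers w)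

end Cfsg.Agent.Lib.Helper59.CY
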