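import Cfsg.Agent.Lib.Helper59.CY.Base

set_option autoImplicit false

namespace Cfsg.Agent.Lib.Helper59.CY

variable {G : Type*} [Group G] [Finite G] {p : ℕ} [Fact p.Prime]

-- G4
theorem fpf_card {W : Subgroup G} {y : G} (hy : orderOf y = p) (hyW : y ∈ Nz W)
    (hf : ∀ u ∈ W, y * u = u * y → u = 1) : Nat.card W ≡ 1 [MOD p] := by
  classical
  haveI : Fintype W := Fintype.ofFinite W
  let f : Function.End W := fun u => ⟨y * u * y⁻¹, (Subgroup.mem_normalizer_iff.mp hyW u).mp u.2⟩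
  have hpow : ∀ n : ℕ, ∀ u : W, (((f ^ n) u : W) : G) = y ^ n * u * (y ^ n)⁻¹ := by
    intro n
    induction n with
    | zero =>
      intro u
      show (u : G) = _
      simp
    | succ n ih =>
      intro u
      rw [pow_succ']
      show y * ((f ^ n) u : G) * y⁻¹ = _
      rw [ih, pow_succ']
      group
  have hfp : f ^ p ^ 1 = 1 := by
    funext u
    apply Subtype.ext
    rw [pow_one, hpow, ← hy, pow_orderOf_eq_one]
    show 1 * (u : G) * 1⁻¹ = (u : G)
    simp
  have h1 := Equiv.Perm.card_fixedPoints_modEq (f := f) (p := p) (n := 1) hfp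
  have h2 : Fintype.card (Function.fixedPoints f) = 1 := by
    rw [Fintype.card_eq_one_iff]
    refine ⟨⟨1, ?_⟩, ?_⟩
    · show f 1 = 1
      apply Subtype.ext
      show y * ((1 : W) : G) * y⁻¹ = ((1 : W) : G)
      simp
    · rintro ⟨u, hu⟩
      apply Subtype.ext
      apply Subtype.ext
      have h3 : y * (u : G) * y⁻¹ = u := congrArg Subtype.val hu
      show (u : G) = 1
      apply hf u u.2
      calc y * (u : G) = (y * u * y⁻¹) * y := by group
        _ = u * y := by rw [h3]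
  rw [Nat.card_eq_fintype_card]
  rw [h2] at h1
  exact h1

-- G5
theorem decomp (p : ℕ) [Fact p.Prime] (x : G) :
    ∃ i j : ℕ, PE p (x ^ i) ∧ PP p (x ^ j) ∧ x = x ^ i * x ^ j := by
  have hpp : p.Prime := Fact.out
  have hn : orderOf x ≠ 0 := (orderOf_pos x).ne'
  obtain ⟨k, m, hm, hnm⟩ := Nat.exists_eq_pow_mul_and_not_dvd hn p hpp.ne_one
  have hcop : (p ^ k).Coprime m := Nat.Coprime.pow_left k ((Nat.Prime.coprime_iff_not_dvd hpp).mpr hm)
  obtain ⟨i, hi1, hi2⟩ := Nat.chineseRemainder hcop 1 0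
  obtain ⟨j, hj1, hj2⟩ := Nat.chineseRemainder hcop 0 1
  refine ⟨i, j, ?_, ?_, ?_⟩
  · have h1 : (x ^ i) ^ (p ^ k) = 1 := by
      rw [← pow_mul]
      apply orderOf_dvd_iff_pow_eq_one.mp
      rw [hnm, mul_comm i]
      exact Nat.mul_dvd_mul_left _ ((Nat.modEq_zero_iff_dvd).mp hi2)
    obtain ⟨l, -, hl⟩ := (Nat.dvd_prime_pow hpp).mp (orderOf_dvd_of_pow_eq_one h1)
    exact ⟨l, hl⟩
  · have h1 : (x ^ j) ^ m = 1 := by
      rw [← pow_mul]
      apply orderOf_dvd_iff_pow_eq_one.mp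
      rw [hnm]
      exact Nat.mul_dvd_mul_right ((Nat.modEq_zero_iff_dvd).mp hj1) _
    exact Nat.Coprime.coprime_dvd_left (orderOf_dvd_of_pow_eq_one h1)
      ((Nat.Prime.coprime_iff_not_dvd hpp).mpr hm).symm
  · rw [← pow_add]
    have h1 : i + j ≡ 1 [MOD orderOf x] := by
      rw [hnm]
      apply (Nat.modEq_and_modEq_iff_modEq_mul hcop).mp
      exact ⟨by simpa using hi1.add hj1, by simpa using hi2.add hj2⟩
    have := (pow_eq_pow_iff_modEq).mpr h1
    rw [this, pow_one]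

end Cfsg.Agent.Lib.Helper59.CY
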