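import Cfsg.Agent.Lib.Helper59.CY.Base

set_option autoImplicit false

namespace Cfsg.Agent.Lib.Helper59.CY

variable {G : Type*} [Group G] [Finite G] {p : ℕ} [Fact p.Prime]

theorem K2 (F : Facts p G) (P : Sylow p G) {K : Subgroup G}
    (hKp : (Nat.card K).Coprime p)
    (hcard : Nat.card (Nz (P : Subgroup G)) = Nat.card (P : Subgroup G) * Nat.card K)
    {q : ℕ} [Fact q.Prime] {a : G} (haK : a ∈ K) (ha : orderOf a = q)
    (hCa : Ce a ≤ Nz (P : Subgroup G)) :
    ∃ Q : Sylow q G, (Q : Subgroup G) ≤ K ∧ a ∈ (Q : Subgroup G) := by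
  have hp : p.Prime := Fact.out
  have hqp : q.Prime := Fact.out
  have hqK : q ∣ Nat.card K := by
    have := orderOf_dvd_natCard (⟨a, haK⟩ : K)
    rwa [Subgroup.orderOf_mk, ha] at this
  have hqcop : q.Coprime p := Nat.Coprime.coprime_dvd_left hqK hKp
  have hz : IsPGroup q (Subgroup.zpowers (⟨a, haK⟩ : K)) := by
    rw [IsPGroup.iff_card]
    exact ⟨1, by rw [Nat.card_zpowers, Subgroup.orderOf_mk, ha, pow_one]⟩
  obtain ⟨S, hS⟩ := hz.exists_le_sylow
  have hSm : IsPGroup q ((S : Subgroup K).map K.subtype) := S.isPGroup'.map _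
  obtain ⟨Q, hQ⟩ := hSm.exists_le_sylow
  have haS : a ∈ (S : Subgroup K).map K.subtype :=
    ⟨⟨a, haK⟩, hS (Subgroup.mem_zpowers _), rfl⟩
  have haQ : a ∈ (Q : Subgroup G) := hQ haS
  obtain ⟨n, hn⟩ := IsPGroup.iff_card.mp Q.isPGroup'
  have hQp : (Nat.card (Q : Subgroup G)).Coprime p := by
    rw [hn]; exact Nat.Coprime.pow_left n hqcop
  have hQN : (Q : Subgroup G) ≤ Nz (P : Subgroup G) := by
    intro t ht
    apply hCa
    rw [Subgroup.mem_centralizer_iff]
    intro h hh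
    rw [Set.mem_singleton_iff] at hh
    subst hh
    exact F.ab _ hQp h haQ t ht
  have hdvd : Nat.card (Q : Subgroup G) ∣ Nat.card (P : Subgroup G) * Nat.card K := by
    rw [← hcard]; exact Subgroup.card_dvd_of_le hQN
  obtain ⟨m, hm⟩ := IsPGroup.iff_card.mp P.isPGroup'
  have hcop : (Nat.card (Q : Subgroup G)).Coprime (Nat.card (P : Subgroup G)) := by
    rw [hm]; exact Nat.Coprime.pow_right m hQp
  have hdvd2 : Nat.card (Q : Subgroup G) ∣ Nat.card K := hcop.dvd_of_dvd_mul_left hdvd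
  have hdvd3 : Nat.card (Q : Subgroup G) ∣ Nat.card (S : Subgroup K) := by
    rw [hn] at hdvd2 ⊢
    exact S.pow_dvd_card_of_pow_dvd_card hdvd2
  have hcm : Nat.card ((S : Subgroup K).map K.subtype) = Nat.card (S : Subgroup K) :=
    Subgroup.card_map_of_injective K.subtype_injective
  have heq : (S : Subgroup K).map K.subtype = (Q : Subgroup G) :=
    Subgroup.eq_of_le_of_card_ge hQ (by rw [hcm]; exact Nat.le_of_dvd Nat.card_pos hdvd3)
  refine ⟨Q, ?_, haQ⟩
  rw [← heq]
  exact Subgroup.map_subtype_le _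

end Cfsg.Agent.Lib.Helper59.CY
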