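import Cfsg.Agent.Lib.Helper59.CY.Base

set_option autoImplicit false

namespace Cfsg.Agent.Lib.Helper59.CY

variable {G : Type*} [Group G] [Finite G] {p : ℕ} [Fact p.Prime]

theorem K3_PP {K : Subgroup G} (hKp : (Nat.card K).Coprime p) {u : G} (hu : u ∈ K) : PP p u := by
  have h1 : orderOf u ∣ Nat.card K := by
    have := orderOf_dvd_natCard (⟨u, hu⟩ : K)
    rwa [Subgroup.orderOf_mk] at this
  exact Nat.Coprime.coprime_dvd_left h1 hKp

theorem K3 (F : Facts p G) (P : Sylow p G) {K : Subgroup G}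
    (hKp : (Nat.card K).Coprime p)
    (hcard : Nat.card (Nz (P : Subgroup G)) = Nat.card (P : Subgroup G) * Nat.card K)
    {q : ℕ} [Fact q.Prime] (Q : Sylow q G) (hQK : (Q : Subgroup G) ≤ K)
    {a : G} (haQ : a ∈ (Q : Subgroup G)) (hCa : Ce a ≤ Nz (P : Subgroup G))
    {T : Subgroup G} (hQT : (Q : Subgroup G) ≤ T) (hTp : (Nat.card T).Coprime p)
    (hall : ∀ x ∈ Nz (Q : Subgroup G), PP p x → x ∈ T) : T = K := by
  have hKT : K ≤ T := by
    intro k hk
    apply hall k _ (K3_PP hKp hk)
    rw [Subgroup.mem_normalizer_iff]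
    intro s
    constructor
    · intro hs
      have : k * s * k⁻¹ = s := by
        rw [F.ab K hKp k hk s (hQK hs)]; group
      rwa [this]
    · intro hs
      have h1 : k * (k * s * k⁻¹) = (k * s * k⁻¹) * k := F.ab K hKp k hk _ (hQK hs)
      have h2 : k * s * k⁻¹ = s := by
        have : k * (k * s * k⁻¹) = k * s := by
          rw [h1]; group
        exact mul_left_cancel this
      rwa [h2] at hs
  have hTN : T ≤ Nz (P : Subgroup G) := by
    intro t ht
    apply hCa
    rw [Subgroup.mem_centralizer_iff]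
    intro h hh
    rw [Set.mem_singleton_iff] at hh
    subst hh
    exact F.ab T hTp h (hQT haQ) t ht
  have hdvd : Nat.card T ∣ Nat.card (P : Subgroup G) * Nat.card K := by
    rw [← hcard]; exact Subgroup.card_dvd_of_le hTN
  obtain ⟨n, hn⟩ := IsPGroup.iff_card.mp P.isPGroup'
  have hcop : (Nat.card T).Coprime (Nat.card (P : Subgroup G)) := by
    rw [hn]; exact Nat.Coprime.pow_right n hTp
  have hdvd2 : Nat.card T ∣ Nat.card K := hcop.dvd_of_dvd_mul_left hdvd
  exact (Subgroup.eq_of_le_of_card_ge hKT (Nat.le_of_dvd Nat.card_pos hdvd2)).symm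

end Cfsg.Agent.Lib.Helper59.CY
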