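import Cfsg.Agent.Lib.Helper59.CY.Base

set_option autoImplicit false

namespace Cfsg.Agent.Lib.Helper59.CY

variable {G : Type*} [Group G] [Finite G] {p : ℕ} [Fact p.Prime]

theorem K4_PP {K : Subgroup G} (hKp : (Nat.card K).Coprime p) {u : G} (hu : u ∈ K) : PP p u := by
  have h1 : orderOf u ∣ Nat.card K := by
    have := orderOf_dvd_natCard (⟨u, hu⟩ : K)
    rwa [Subgroup.orderOf_mk] at this
  exact Nat.Coprime.coprime_dvd_left h1 hKp

theorem K4 (F : Facts p G) {K : Subgroup G} (hKp : (Nat.card K).Coprime p)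
    {q : ℕ} [Fact q.Prime] (hq : q ≠ p) (Q : Sylow q G) (hQK : (Q : Subgroup G) ≤ K)
    (hQ1 : (Q : Subgroup G) ≠ ⊥)
    {y : G} (hy : orderOf y = p) (hyQ : y ∈ Nz (Q : Subgroup G))
    (hf : ∀ u ∈ (Q : Subgroup G), y * u = u * y → u = 1)
    (hCA : ∀ (P' : Sylow p G) (u : G), u ∈ Cz (P' : Subgroup G) → PP p u → u ≠ 1 →
      Ce u ≤ Nz (P' : Subgroup G)) :
    ∀ u ∈ K, y * u = u * y → u = 1 := by
  intro u huK hyu
  by_contra hu1
  have hp : p.Prime := Fact.out
  have hy1 : y ≠ 1 := by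
    intro h; rw [h, orderOf_one] at hy; exact hp.one_lt.ne hy
  have hzp : IsPGroup p (Subgroup.zpowers y) := by
    rw [IsPGroup.iff_card]
    exact ⟨1, by rw [Nat.card_zpowers, hy, pow_one]⟩
  obtain ⟨P', hP'⟩ := hzp.exists_le_sylow
  have hyP' : y ∈ (P' : Subgroup G) := hP' (Subgroup.mem_zpowers y)
  have huN : u ∈ Nz (P' : Subgroup G) := by
    apply F.cy P' y hyP' hy1
    rw [Subgroup.mem_centralizer_iff]
    intro h hh
    rw [Set.mem_singleton_iff] at hh
    subst hh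
    exact hyu
  have huPP : PP p u := K4_PP hKp huK
  have hcent := F.fp P' u huN huPP ⟨y, hyP', hy1, hyu.symm⟩
  have huC : u ∈ Cz (P' : Subgroup G) := by
    rw [Subgroup.mem_centralizer_iff]
    intro h hh
    exact (hcent h hh).symm
  have hCe := hCA P' u huC huPP hu1
  apply hQ1
  rw [Subgroup.eq_bot_iff_forall]
  intro v hv
  have hvN : v ∈ Nz (P' : Subgroup G) := by
    apply hCe
    rw [Subgroup.mem_centralizer_iff]
    intro h hh
    rw [Set.mem_singleton_iff] at hh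
    subst hh
    exact F.ab K hKp h huK v (hQK hv)
  have hc1 : y * v * y⁻¹ * v⁻¹ ∈ (Q : Subgroup G) :=
    (Q : Subgroup G).mul_mem ((Subgroup.mem_normalizer_iff.mp hyQ v).mp hv) ((Q : Subgroup G).inv_mem hv)
  have hc2 : y * v * y⁻¹ * v⁻¹ ∈ (P' : Subgroup G) := by
    have : y * v * y⁻¹ * v⁻¹ = y * (v * y⁻¹ * v⁻¹) := by group
    rw [this]
    exact (P' : Subgroup G).mul_mem hyP'
      ((Subgroup.mem_normalizer_iff.mp hvN y⁻¹).mp ((P' : Subgroup G).inv_mem hyP'))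
  have hdisj : Disjoint (Q : Subgroup G) (P' : Subgroup G) :=
    IsPGroup.disjoint_of_ne q p hq _ _ Q.isPGroup' P'.isPGroup'
  have hc : y * v * y⁻¹ * v⁻¹ = 1 := Subgroup.disjoint_def.mp hdisj hc1 hc2
  apply hf v hv
  have : y * v = (y * v * y⁻¹ * v⁻¹) * (v * y) := by group
  rw [this, hc, one_mul]

end Cfsg.Agent.Lib.Helper59.CY
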