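import Cfsg.Agent.Lib.Helper59.CY.Base

set_option autoImplicit false

namespace Cfsg.Agent.Lib.Helper59.CY

variable {G : Type*} [Group G] [Finite G] {p : ℕ} [Fact p.Prime]

theorem K_index (P : Sylow p G) {K : Subgroup G} (φ : K →* (ZMod p)ˣ)
    (hφ : ∀ k : K, φ k = 1 ↔ (k : G) ∈ Cz (P : Subgroup G)) :
    ∃ e : ℕ, Nat.card K = e * Nat.card (K ⊓ Cz (P : Subgroup G) : Subgroup G) ∧ e ∣ p - 1 := by
  refine ⟨Nat.card φ.range, ?_, ?_⟩
  · have h1 : Nat.card K = Nat.card φ.ker * Nat.card φ.range := by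
      rw [← Subgroup.index_ker φ, mul_comm, Subgroup.index_mul_card]
    have h2 : Nat.card φ.ker = Nat.card (K ⊓ Cz (P : Subgroup G) : Subgroup G) := by
      have : φ.ker = (Cz (P : Subgroup G)).subgroupOf K := by
        ext k
        rw [MonoidHom.mem_ker, hφ, Subgroup.mem_subgroupOf]
      rw [this, inf_comm, ← Subgroup.inf_subgroupOf_right]
      exact Nat.card_congr (Subgroup.subgroupOfEquivOfLe inf_le_right).toEquiv
    rw [h1, h2, mul_comm]
  · have := Subgroup.card_subgroup_dvd_card φ.range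
    rwa [Nat.card_eq_fintype_card (α := (ZMod p)ˣ), ZMod.card_units] at this

end Cfsg.Agent.Lib.Helper59.CY
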