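import Cfsg.Agent.Lib.Helper59.CY.Base

set_option autoImplicit false

namespace Cfsg.Agent.Lib.Helper59.CY

variable {G : Type*} [Group G] [Finite G] {p : ℕ} [Fact p.Prime]

-- M0
theorem MC_conj {P : Sylow p G} (h : MC p P) (P' : Sylow p G) : MC p P' := by
  obtain ⟨g, rfl⟩ := MulAction.exists_smul_eq G P P'
  refine ⟨?_, h.ab, h.ncomp, ?_, h.sub⟩
  · have := h.cyc
    exact (Sylow.equivSMul P g).isCyclic.1 this
  · intro hn
    apply h.nnorm
    have h1 : g⁻¹ • (g • P) = g • P := Sylow.smul_eq_of_normal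
    rw [inv_smul_smul] at h1
    rw [h1]
    exact hn

end Cfsg.Agent.Lib.Helper59.CY
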