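import Cfsg.Agent.Lib.Helper59.CY.Base
import Cfsg.Agent.Lib.Helper59.CY.G1
import Cfsg.Agent.Lib.Helper59.CY.G4
import Cfsg.Agent.Lib.Helper2.CY.Basic

set_option autoImplicit false

namespace Cfsg.Agent.Lib.Helper59.CY

variable {G : Type*} [Group G] [Finite G] {p : ℕ} [Fact p.Prime]

-- M1
theorem ex_x {P : Sylow p G} (h : MC p P) :
    ∃ x ∈ Nz (P : Subgroup G), PP p x ∧ ∃ y ∈ (P : Subgroup G), x * y ≠ y * x := by
  have hnot : ¬ Nz (P : Subgroup G) ≤ Cz (P : Subgroup G) := by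
    intro hle
    exact h.ncomp ⟨P, _, inferInstance, MonoidHom.ker_transferSylow_isComplement' P hle⟩
  obtain ⟨g, hgN, hgC⟩ := SetLike.not_le_iff_exists.1 hnot
  rw [Subgroup.mem_centralizer_iff] at hgC
  push Not at hgC
  obtain ⟨y, hy, hyg⟩ := hgC
  obtain ⟨i, j, hi, hj, hij⟩ := decomp p g
  have hcomm := Cfsg.Agent.Lib.Helper2.CY.comm_of_cyclic h.cyc
  have hiP : g ^ i ∈ (P : Subgroup G) := pin P (Subgroup.pow_mem _ hgN i) hi
  refine ⟨g ^ j, Subgroup.pow_mem _ hgN j, hj, y, hy, ?_⟩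
  intro hc
  apply hyg
  rw [hij, ← mul_assoc, ← hcomm _ hiP y hy, mul_assoc, ← hc, mul_assoc]

end Cfsg.Agent.Lib.Helper59.CY
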