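import Cfsg.Agent.Lib.Helper59.CY.Base
import Cfsg.Agent.Lib.Helper2.CY.Basic

set_option autoImplicit false

namespace Cfsg.Agent.Lib.Helper59.CY

open Cfsg.Agent.Lib.Helper2.CY

variable {G : Type*} [Group G] [Finite G] {p : ℕ} [Fact p.Prime]

private theorem mem_Nz_of_conj_M10 {H : Subgroup G} {x : G} (hx : ∀ n ∈ H, x * n * x⁻¹ ∈ H) :
    x ∈ Nz H := by
  let φ : ↥H → ↥H := fun n => ⟨x * n.1 * x⁻¹, hx n.1 n.2⟩
  have hinj : Function.Injective φ := by
    intro a b hab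
    have h1 : x * a.1 * x⁻¹ = x * b.1 * x⁻¹ := congrArg Subtype.val hab
    exact Subtype.ext (mul_left_cancel (mul_right_cancel h1))
  have hsurj := Finite.injective_iff_surjective.1 hinj
  rw [Subgroup.mem_normalizer_iff]
  intro n
  refine ⟨hx n, fun hm => ?_⟩
  obtain ⟨n', hn'⟩ := hsurj ⟨_, hm⟩
  have h1 : x * n'.1 * x⁻¹ = x * n * x⁻¹ := congrArg Subtype.val hn'
  rw [← mul_left_cancel (mul_right_cancel h1)]
  exact n'.2

-- M10
theorem cy {P : Sylow p G} (h : MC p P)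
    (hsimp : ∀ M : Subgroup G, M.Normal → M = ⊥ ∨ M = ⊤)
    (hex : ∃ x ∈ Nz (P : Subgroup G), PP p x ∧ ∃ y ∈ (P : Subgroup G), x * y ≠ y * x)
    (hdl : ∀ H : Subgroup G, H ≠ ⊤ → (P : Subgroup G) ≤ H →
      (∃ x ∈ H, x ∈ Nz (P : Subgroup G) ∧ PP p x ∧ ∃ y ∈ (P : Subgroup G), x * y ≠ y * x) →
      H ≤ Nz (P : Subgroup G)) :
    ∀ y ∈ (P : Subgroup G), y ≠ 1 → Ce y ≤ Nz (P : Subgroup G) := by
  intro y hy hy1
  have hZP : Subgroup.zpowers y ≤ (P : Subgroup G) := by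
    rw [Subgroup.zpowers_le]; exact hy
  have hCe : Ce y ≤ Nz (Subgroup.zpowers y) := by
    intro c hc
    apply mem_Nz_of_conj_M10
    intro n hn
    obtain ⟨i, rfl⟩ := Subgroup.mem_zpowers_iff.1 hn
    have h1 : Commute c y := ((Subgroup.mem_centralizer_iff.1 hc) y rfl).symm
    have h2 : c * y ^ i = y ^ i * c := (h1.zpow_right i).eq
    rw [h2, mul_inv_cancel_right]
    exact hn
  have hne : Nz (Subgroup.zpowers y) ≠ ⊤ := by
    intro htop
    have hn : (Subgroup.zpowers y).Normal := Subgroup.normalizer_eq_top_iff.1 htop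
    rcases hsimp _ hn with h1 | h1
    · exact hy1 (Subgroup.zpowers_eq_bot.1 h1)
    · apply h.nnorm
      have : (P : Subgroup G) = ⊤ := top_le_iff.1 (h1 ▸ hZP)
      rw [this]
      infer_instance
  have hPH : (P : Subgroup G) ≤ Nz (Subgroup.zpowers y) := by
    intro z hz
    apply hCe
    rw [Subgroup.mem_centralizer_iff]
    rintro _ rfl
    exact comm_of_cyclic h.cyc _ hy z hz
  obtain ⟨x, hxN, hxp, y', hy', hxy'⟩ := hex
  have hxH : x ∈ Nz (Subgroup.zpowers y) := by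
    obtain ⟨k, hk⟩ := cyc_conj_pow h.cyc hxN
    apply mem_Nz_of_conj_M10
    intro n hn
    rw [hk n (hZP hn)]
    exact Subgroup.pow_mem _ hn k
  exact hCe.trans (hdl _ hne hPH ⟨x, hxH, hxN, hxp, y', hy', hxy'⟩)

end Cfsg.Agent.Lib.Helper59.CY
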