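import Cfsg.Agent.Lib.Helper59.CY.Base
import Cfsg.Agent.Lib.Helper2.CY.Basic

set_option autoImplicit false

namespace Cfsg.Agent.Lib.Helper59.CY

open Cfsg.Agent.Lib.Helper2.CY

private theorem nt_M2 {p a k m j : ℕ} (hp : p.Prime) (hkm : k ^ m ≡ 1 [MOD p ^ a])
    (hm : m.Coprime p) (hkj : k * j ≡ j [MOD p ^ a]) (hj : ¬ p ^ a ∣ j) : k ≡ 1 [MOD p ^ a] := by
  rcases a with _ | a'
  · exact absurd (by simp) hj
  have h1 : ((p ^ (a' + 1) : ℕ) : ℤ) ∣ (j : ℤ) * (1 - k) := by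
    have := (Nat.modEq_iff_dvd).1 hkj
    push_cast at this ⊢
    have e : (j : ℤ) * (1 - k) = j - k * j := by ring
    rw [e]; exact this
  have h2 : (p : ℤ) ∣ (k : ℤ) - 1 := by
    by_contra hnd
    have hnd' : ¬ (p : ℤ) ∣ 1 - (k : ℤ) := by
      intro h
      apply hnd
      have := (dvd_neg).2 h
      simpa using this
    have hc : IsCoprime ((p : ℤ) ^ (a' + 1)) (1 - (k : ℤ)) :=
      IsCoprime.pow_left (((Nat.prime_iff_prime_int.1 hp).coprime_iff_not_dvd).2 hnd')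
    push_cast at h1
    have h3 := hc.dvd_of_dvd_mul_right h1
    apply hj
    exact_mod_cast h3
  have h3 := dvd_sub_pow_of_dvd_sub h2 a'
  rw [one_pow] at h3
  have h4 : ((k : ZMod (p ^ (a' + 1)))) ^ p ^ a' = 1 := by
    have : (((k : ℤ) ^ p ^ a' - 1 : ℤ) : ZMod (p ^ (a' + 1))) = 0 := by
      rw [ZMod.intCast_zmod_eq_zero_iff_dvd]
      exact_mod_cast h3
    push_cast at this
    exact sub_eq_zero.1 this
  have h5 : ((k : ZMod (p ^ (a' + 1)))) ^ m = 1 := by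
    have := (ZMod.natCast_eq_natCast_iff _ _ _).2 hkm
    push_cast at this
    exact this
  have h6 := pow_gcd_eq_one.2 ⟨h5, h4⟩
  have h7 : m.gcd (p ^ a') = 1 := Nat.Coprime.pow_right _ hm
  rw [h7, pow_one] at h6
  apply (ZMod.natCast_eq_natCast_iff _ _ _).1
  push_cast
  exact h6

variable {G : Type*} [Group G] [Finite G] {p : ℕ} [Fact p.Prime]

-- M2
theorem fp (P : Sylow p G) (hcyc : IsCyclic (P : Subgroup G)) {x : G} (hx : x ∈ Nz (P : Subgroup G))
    (hxp : PP p x) (hfix : ∃ y ∈ (P : Subgroup G), y ≠ 1 ∧ x * y = y * x) :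
    ∀ y ∈ (P : Subgroup G), x * y = y * x := by
  obtain ⟨g, hgP, hg⟩ := exists_gen hcyc
  obtain ⟨k, hk⟩ := cyc_conj_pow hcyc hx
  obtain ⟨a, ha⟩ := PE_of_mem P.2 hgP
  -- iterate
  have hiter : ∀ i : ℕ, x ^ i * g * (x ^ i)⁻¹ = g ^ (k ^ i) := by
    intro i
    induction i with
    | zero => simp
    | succ i ih =>
      calc x ^ (i + 1) * g * (x ^ (i + 1))⁻¹ = x * (x ^ i * g * (x ^ i)⁻¹) * x⁻¹ := by
            rw [pow_succ']; group
        _ = x * g ^ (k ^ i) * x⁻¹ := by rw [ih]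
        _ = (g ^ (k ^ i)) ^ k := hk _ (Subgroup.pow_mem _ hgP _)
        _ = g ^ (k ^ (i + 1)) := by rw [← pow_mul, pow_succ]
  have hkm : k ^ orderOf x ≡ 1 [MOD p ^ a] := by
    rw [← ha, ← pow_eq_pow_iff_modEq, ← hiter, pow_orderOf_eq_one]
    simp
  obtain ⟨y, hyP, hy1, hxy⟩ := hfix
  obtain ⟨j, rfl⟩ := hg y hyP
  have hkj : k * j ≡ j [MOD p ^ a] := by
    rw [← ha, ← pow_eq_pow_iff_modEq, mul_comm, pow_mul, ← hk _ hyP, hxy]
    group
  have hj : ¬ p ^ a ∣ j := by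
    intro h
    apply hy1
    rw [← ha] at h
    exact orderOf_dvd_iff_pow_eq_one.1 h
  have hk1 := nt_M2 (Fact.out : p.Prime) hkm hxp hkj hj
  rw [← ha, ← pow_eq_pow_iff_modEq, pow_one] at hk1
  have hxg : x * g = g * x := by
    have := hk g hgP
    rw [hk1] at this
    calc x * g = (x * g * x⁻¹) * x := by group
      _ = g * x := by rw [this]
  intro y hy
  obtain ⟨i, rfl⟩ := hg y hy
  exact ((Commute.pow_right (show Commute x g from hxg) i)).eq

end Cfsg.Agent.Lib.Helper59.CY
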