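import Cfsg.Agent.Lib.Helper59.CY.Base
import Cfsg.Agent.Lib.Helper2.CY.Basic

set_option autoImplicit false

namespace Cfsg.Agent.Lib.Helper59.CY

open Cfsg.Agent.Lib.Helper2.CY

variable {G : Type*} [Group G] [Finite G] {p : ℕ} [Fact p.Prime]

-- M3
theorem onto (P : Sylow p G) (hcyc : IsCyclic (P : Subgroup G)) {x : G} (hx : x ∈ Nz (P : Subgroup G))
    (hf : ∀ y ∈ (P : Subgroup G), x * y = y * x → y = 1) :
    ∀ z ∈ (P : Subgroup G), ∃ y ∈ (P : Subgroup G), z = y * x * y⁻¹ * x⁻¹ := by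
  let φ : ↥(P : Subgroup G) → ↥(P : Subgroup G) := fun y =>
    ⟨y.1 * x * y.1⁻¹ * x⁻¹, by
      have h1 := conj_mem_of_mem_Nz hx ((P : Subgroup G).inv_mem y.2)
      have h2 := (P : Subgroup G).mul_mem y.2 h1
      simpa [mul_assoc] using h2⟩
  have hinj : Function.Injective φ := by
    intro y y' hyy
    have h1 : y.1 * x * y.1⁻¹ * x⁻¹ = y'.1 * x * y'.1⁻¹ * x⁻¹ := congrArg Subtype.val hyy
    have h2 : y.1 * x * y.1⁻¹ = y'.1 * x * y'.1⁻¹ := mul_right_cancel h1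
    have h3 : x * (y'.1⁻¹ * y.1) = (y'.1⁻¹ * y.1) * x := by
      calc x * (y'.1⁻¹ * y.1) = y'.1⁻¹ * (y'.1 * x * y'.1⁻¹) * y.1 := by group
        _ = y'.1⁻¹ * (y.1 * x * y.1⁻¹) * y.1 := by rw [h2]
        _ = (y'.1⁻¹ * y.1) * x := by group
    have h4 := hf _ ((P : Subgroup G).mul_mem ((P : Subgroup G).inv_mem y'.2) y.2) h3
    exact Subtype.ext (inv_mul_eq_one.1 h4).symm
  intro z hz
  obtain ⟨y, hy⟩ := (Finite.injective_iff_surjective.1 hinj) ⟨z, hz⟩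
  exact ⟨y.1, y.2, (congrArg Subtype.val hy).symm⟩

end Cfsg.Agent.Lib.Helper59.CY
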