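import Cfsg.Agent.Lib.Helper59.CY.Base
import Cfsg.Agent.Lib.Helper2.CY.Basic

set_option autoImplicit false

namespace Cfsg.Agent.Lib.Helper59.CY

open Cfsg.Agent.Lib.Helper2.CY

variable {G : Type*} [Group G] [Finite G] {p : ℕ} [Fact p.Prime]

-- M4
theorem TS (P : Sylow p G)
    (hab : ∀ H : Subgroup G, (Nat.card H).Coprime p → ∀ x ∈ H, ∀ y ∈ H, x * y = y * x)
    {x : G} (hxp : PP p x)
    (honto : ∀ z ∈ (P : Subgroup G), ∃ y ∈ (P : Subgroup G), z = y * x * y⁻¹ * x⁻¹)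
    (T : Subgroup G) (hT : T.Normal) (hTp : (Nat.card T).Coprime p) :
    ∀ z ∈ (P : Subgroup G), ∀ t ∈ T, z * t = t * z := by
  have hcop : (Nat.card (T ⊔ Subgroup.zpowers x : Subgroup G)).Coprime p := by
    apply Nat.Coprime.of_dvd_left (card_sup_dvd T (Subgroup.zpowers x))
    rw [Nat.card_zpowers]
    exact Nat.Coprime.mul_left hTp hxp
  have hxt : ∀ t ∈ T, x * t = t * x := fun t ht =>
    hab _ hcop x ((le_sup_right : Subgroup.zpowers x ≤ _) (Subgroup.mem_zpowers x)) t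
      ((le_sup_left : T ≤ _) ht)
  intro z hz t ht
  obtain ⟨y, -, rfl⟩ := honto z hz
  have h1 : x * (y⁻¹ * t * y) = (y⁻¹ * t * y) * x := by
    apply hxt
    have := hT.conj_mem t ht y⁻¹
    simpa using this
  have h2 : x⁻¹ * t = t * x⁻¹ := by
    have := hxt t ht
    calc x⁻¹ * t = x⁻¹ * (t * x) * x⁻¹ := by group
      _ = x⁻¹ * (x * t) * x⁻¹ := by rw [this]
      _ = t * x⁻¹ := by group
  calc y * x * y⁻¹ * x⁻¹ * t = y * x * y⁻¹ * (x⁻¹ * t) := by group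
    _ = y * x * y⁻¹ * (t * x⁻¹) := by rw [h2]
    _ = y * (x * (y⁻¹ * t * y)) * y⁻¹ * x⁻¹ := by group
    _ = y * ((y⁻¹ * t * y) * x) * y⁻¹ * x⁻¹ := by rw [h1]
    _ = t * (y * x * y⁻¹ * x⁻¹) := by group

end Cfsg.Agent.Lib.Helper59.CY
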