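import Cfsg.Agent.Lib.Helper59.CY.Base
import Cfsg.Agent.Lib.Helper2.CY.Basic

set_option autoImplicit false

namespace Cfsg.Agent.Lib.Helper59.CY

open Cfsg.Agent.Lib.Helper2.CY

variable {G : Type*} [Group G] [Finite G] {p : ℕ} [Fact p.Prime]

private theorem orderOf_conj_M5 (g x : G) : orderOf (g * x * g⁻¹) = orderOf x :=
  (MulAut.conj g).orderOf_eq x

private theorem finish_M5 (P : Sylow p G) {M R : Subgroup G} (hM : M.Normal) (hRM : R ≤ M)
    (hRp : IsPGroup p R) (hR : ∀ x ∈ M, PE p x → x ∈ R) : (M ⊓ (P : Subgroup G)).Normal := by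
  have hRn : R.Normal := by
    constructor
    intro r hr g
    apply hR _ (hM.conj_mem r (hRM hr) g)
    obtain ⟨k, hk⟩ := PE_of_mem hRp hr
    exact ⟨k, by rw [orderOf_conj_M5, hk]⟩
  have heq : M ⊓ (P : Subgroup G) = R := by
    apply le_antisymm
    · rintro x ⟨hxM, hxP⟩
      exact hR x hxM (PE_of_mem P.2 hxP)
    · exact le_inf hRM (normal_le_sylow P hRn hRp)
  rw [heq]; exact hRn

-- M5
theorem NS1 {P : Sylow p G} (h : MC p P)
    (hTS : ∀ T : Subgroup G, T.Normal → (Nat.card T).Coprime p →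
      ∀ z ∈ (P : Subgroup G), ∀ t ∈ T, z * t = t * z)
    (M : Subgroup G) (hM : M.Normal) (hMt : M ≠ ⊤) : (M ⊓ (P : Subgroup G)).Normal := by
  rcases h.sub M hMt with ⟨T, R, hTM, hRM, -, hTp, hRp, hfac, hT⟩ | ⟨R, hRM, -, hRp, hR⟩
  · have hPPT : ∀ t ∈ T, PP p t := by
      intro t ht
      exact Nat.Coprime.of_dvd_left (Subgroup.orderOf_dvd_natCard T ht) hTp
    have hTn : T.Normal := by
      constructor
      intro t ht g
      apply hT _ (hM.conj_mem t (hTM ht) g)
      unfold PP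
      rw [orderOf_conj_M5]
      exact hPPT t ht
    have hcomm : ∀ w : G, PE p w → ∀ t ∈ T, w * t = t * w := by
      intro w hw t ht
      obtain ⟨g, hg⟩ := exists_conj_mem_sylow P hw
      have h1 := hTS T hTn hTp _ hg _ (hTn.conj_mem t ht g)
      calc w * t = g⁻¹ * ((g * w * g⁻¹) * (g * t * g⁻¹)) * g := by group
        _ = g⁻¹ * ((g * t * g⁻¹) * (g * w * g⁻¹)) * g := by rw [h1]
        _ = t * w := by group
    apply finish_M5 P hM hRM hRp
    intro x hxM hxp
    obtain ⟨t, ht, r, hr, rfl⟩ := hfac x hxM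
    have hrp := PE_of_mem hRp hr
    have hc : Commute t r := (hcomm r hrp t ht).symm
    obtain ⟨kr, hkr⟩ := hrp
    have hcop : (orderOf t).Coprime (orderOf r) := by
      rw [hkr]
      exact Nat.Coprime.pow_right _ (hPPT t ht)
    have ho := hc.orderOf_mul_eq_mul_orderOf_of_coprime hcop
    obtain ⟨k, hk⟩ := hxp
    have hdvd : orderOf t ∣ p ^ k := by
      rw [← hk, ho]; exact Dvd.intro _ rfl
    have h1 : orderOf t = 1 :=
      Nat.Coprime.eq_one_of_dvd (Nat.Coprime.pow_right k (hPPT t ht)) hdvd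
    rw [orderOf_eq_one_iff.1 h1, one_mul]
    exact hr
  · exact finish_M5 P hM hRM hRp hR

end Cfsg.Agent.Lib.Helper59.CY
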