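import Cfsg.Agent.Lib.Helper59.CY.Base
import Cfsg.Agent.Lib.Helper2.CY.Basic

set_option autoImplicit false

namespace Cfsg.Agent.Lib.Helper59.CY

open Cfsg.Agent.Lib.Helper2.CY

variable {G : Type*} [Group G] [Finite G] {p : ℕ} [Fact p.Prime]

-- M6
theorem NS2 {P : Sylow p G} (h : MC p P)
    (hNS1 : ∀ M : Subgroup G, M.Normal → M ≠ ⊤ → (M ⊓ (P : Subgroup G)).Normal)
    (hx : ∃ x : G, ∀ y ∈ (P : Subgroup G), x * y = y * x → y = 1)
    (M : Subgroup G) (hM : M.Normal) (hMt : M ≠ ⊤) : M ⊓ (P : Subgroup G) = ⊥ := by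
  by_contra hne
  have hn : (M ⊓ (P : Subgroup G)).Normal := hNS1 M hM hMt
  have hCn : (Cz (M ⊓ (P : Subgroup G))).Normal := Subgroup.normal_centralizer
  obtain ⟨x, hx⟩ := hx
  have hCt : Cz (M ⊓ (P : Subgroup G)) ≠ ⊤ := by
    intro htop
    apply hne
    rw [eq_bot_iff]
    intro y hy
    have hxC : x ∈ Cz (M ⊓ (P : Subgroup G)) := by rw [htop]; trivial
    have := (Subgroup.mem_centralizer_iff.1 hxC) y hy
    exact hx y hy.2 this.symm
  have hPC : (P : Subgroup G) ≤ Cz (M ⊓ (P : Subgroup G)) := by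
    intro z hz
    rw [Subgroup.mem_centralizer_iff]
    intro y hy
    exact comm_of_cyclic h.cyc y hy.2 z hz
  have := hNS1 _ hCn hCt
  rw [inf_eq_right.2 hPC] at this
  exact h.nnorm this

end Cfsg.Agent.Lib.Helper59.CY
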