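import Cfsg.Agent.Lib.Helper59.CY.Base
import Cfsg.Agent.Lib.Helper2.CY.Basic

set_option autoImplicit false

namespace Cfsg.Agent.Lib.Helper59.CY

open Cfsg.Agent.Lib.Helper2.CY

variable {G : Type*} [Group G] [Finite G] {p : ℕ} [Fact p.Prime]

-- M7
theorem NS3 {P : Sylow p G} (h : MC p P)
    (hTS : ∀ T : Subgroup G, T.Normal → (Nat.card T).Coprime p →
      ∀ z ∈ (P : Subgroup G), ∀ t ∈ T, z * t = t * z)
    (hNS2 : ∀ M : Subgroup G, M.Normal → M ≠ ⊤ → M ⊓ (P : Subgroup G) = ⊥)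
    (M : Subgroup G) (hM : M.Normal) (hMt : M ≠ ⊤) : M ≤ Subgroup.center G := by
  have hp : p.Prime := Fact.out
  have hcop : (Nat.card M).Coprime p := by
    rw [Nat.coprime_comm, hp.coprime_iff_not_dvd]
    intro hdvd
    obtain ⟨w, hw⟩ := exists_prime_orderOf_dvd_card' p hdvd
    have hw' : orderOf (w : G) = p := by rw [Subgroup.orderOf_coe, hw]
    obtain ⟨g, hg⟩ := exists_conj_mem_sylow P (w := (w : G)) ⟨1, by rw [hw', pow_one]⟩
    have h1 : g * (w : G) * g⁻¹ ∈ M ⊓ (P : Subgroup G) := ⟨hM.conj_mem _ w.2 g, hg⟩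
    rw [hNS2 M hM hMt, Subgroup.mem_bot] at h1
    have h2 : (w : G) = 1 := by
      calc (w : G) = g⁻¹ * (g * (w : G) * g⁻¹) * g := by group
        _ = 1 := by rw [h1]; group
    rw [h2, orderOf_one] at hw'
    exact hp.one_lt.ne hw'
  have hPC : (P : Subgroup G) ≤ Cz M := by
    intro z hz
    rw [Subgroup.mem_centralizer_iff]
    intro t ht
    exact (hTS M hM hcop z hz t ht).symm
  have hCn : (Cz M).Normal := Subgroup.normal_centralizer
  have hCt : Cz M = ⊤ := by
    by_contra hne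
    have h1 := hNS2 _ hCn hne
    rw [inf_eq_right.2 hPC] at h1
    apply h.nnorm
    rw [h1]
    infer_instance
  intro m hm
  rw [Subgroup.mem_center_iff]
  intro g
  have hg : g ∈ Cz M := by rw [hCt]; trivial
  exact ((Subgroup.mem_centralizer_iff.1 hg) m hm).symm

end Cfsg.Agent.Lib.Helper59.CY
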