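import Cfsg.Agent.Lib.Helper59.CY.Base
import Cfsg.Agent.Lib.Helper59.CY.M0
import Cfsg.Agent.S0089

set_option autoImplicit false

namespace Cfsg.Agent.Lib.Helper59.CY

variable {G : Type*} [Group G] [Finite G] {p : ℕ} [Fact p.Prime]

-- M8
theorem simple' {P : Sylow p G} (h : MC p P)
    (hNS3 : ∀ M : Subgroup G, M.Normal → M ≠ ⊤ → M ≤ Subgroup.center G) :
    (∀ M : Subgroup G, M.Normal → M = ⊥ ∨ M = ⊤) ∧ ∀ u : G, u ≠ 1 → Ce u ≠ ⊤ := by
  have hcomm : commutator G = ⊤ := by
    by_contra hne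
    have hle := hNS3 (commutator G) inferInstance hne
    have hnil : Group.IsNilpotent G := by
      rw [Subgroup.nilpotent_iff_lowerCentralSeries]
      refine ⟨2, Subgroup.lowerCentralSeries_succ_eq_bot ⊤ ?_⟩
      rw [Subgroup.top_lowerCentralSeries_one]
      exact hle
    have h3 : ∀ (p : ℕ) (_hp : Fact p.Prime) (P : Sylow p G), (↑P : Subgroup G).Normal :=
      (Group.isNilpotent_of_finite_tfae.out 0 3).1 hnil
    exact h.nnorm (h3 p inferInstance P)
  have hsyl : ∀ q : ℕ, q.Prime → ∀ Q : Sylow q G, IsMulCommutative Q := by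
    intro q hq Q
    by_cases hqp : q = p
    · subst hqp
      have := (MC_conj h Q).cyc
      exact IsCyclic.isMulCommutative
    · have hcop : (Nat.card (Q : Subgroup G)).Coprime p := by
        haveI : Fact q.Prime := ⟨hq⟩
        obtain ⟨n, hn⟩ := IsPGroup.iff_card.1 Q.2
        rw [hn]
        exact Nat.Coprime.pow_left _ ((Nat.coprime_primes hq Fact.out).2 hqp)
      exact ⟨⟨fun a b => Subtype.ext (h.ab _ hcop a.1 a.2 b.1 b.2)⟩⟩
  have hcen : Subgroup.center G = ⊥ := by
    have := Cfsg.Agent.S0089.result hsyl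
    rwa [hcomm, top_inf_eq] at this
  refine ⟨fun M hM => ?_, fun u hu htop => ?_⟩
  · by_cases hMt : M = ⊤
    · exact Or.inr hMt
    · left
      have := hNS3 M hM hMt
      rwa [hcen, le_bot_iff] at this
  · apply hu
    have : u ∈ Subgroup.center G := by
      rw [Subgroup.mem_center_iff]
      intro g
      have hg : g ∈ Ce u := by rw [htop]; trivial
      exact ((Subgroup.mem_centralizer_iff.1 hg) u rfl).symm
    rwa [hcen, Subgroup.mem_bot] at this

end Cfsg.Agent.Lib.Helper59.CY
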