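import Cfsg.Agent.Lib.Helper59.CY.Base
import Cfsg.Agent.Lib.Helper59.CY.G1

set_option autoImplicit false

namespace Cfsg.Agent.Lib.Helper59.CY

variable {G : Type*} [Group G] [Finite G] {p : ℕ} [Fact p.Prime]

-- M9
theorem dl {P : Sylow p G} (h : MC p P) (H : Subgroup G) (hH : H ≠ ⊤) (hPH : (P : Subgroup G) ≤ H)
    (hx : ∃ x ∈ H, x ∈ Nz (P : Subgroup G) ∧ PP p x ∧ ∃ y ∈ (P : Subgroup G), x * y ≠ y * x) :
    H ≤ Nz (P : Subgroup G) := by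
  rcases h.sub H hH with h1 | h1
  · obtain ⟨x, hxH, hxN, hxp, y, hy, hxy⟩ := hx
    exact absurd (pnil_cent h1 hPH P.2 hxH hxp hxN y hy) hxy
  · exact pcl_norm P h1 hPH

end Cfsg.Agent.Lib.Helper59.CY
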