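import Cfsg.Agent.Lib.Helper59.CY.Base
import Cfsg.Agent.Lib.Helper59.CY.K5

set_option autoImplicit false

namespace Cfsg.Agent.Lib.Helper59.CY

theorem PHI_equiv (H : Type*) [Group H] [IsCyclic H] (p : ℕ) (h : Nat.card H = p) :
    Nonempty (MulAut H ≃* (ZMod p)ˣ) := by
  subst h
  exact ⟨IsCyclic.mulAutMulEquiv H⟩

variable {G : Type*} [Group G] [Finite G] {p : ℕ} [Fact p.Prime]

theorem phi (F : Facts p G) (P : Sylow p G) {K : Subgroup G} (hK : K ≤ Nz (P : Subgroup G))
    (hKp : (Nat.card K).Coprime p) :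
    ∃ φ : K →* (ZMod p)ˣ, ∀ k : K, φ k = 1 ↔ (k : G) ∈ Cz (P : Subgroup G) := by
  have hp : p.Prime := Fact.out
  haveI := F.cyc P
  obtain ⟨g, hg⟩ := IsCyclic.exists_generator (α := (P : Subgroup G))
  obtain ⟨n, hn⟩ := IsPGroup.iff_card.mp P.isPGroup'
  have hn0 : n ≠ 0 := by
    intro h
    rw [h, pow_zero] at hn
    exact (F.ne P).1 (Subgroup.eq_bot_of_card_eq _ hn)
  obtain ⟨m, rfl⟩ := Nat.exists_eq_succ_of_ne_zero hn0
  have hog : orderOf (g : G) = p ^ (m + 1) := by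
    rw [Subgroup.orderOf_coe, orderOf_eq_card_of_forall_mem_zpowers hg, hn]
  set y0 : G := (g : G) ^ (p ^ m) with hy0
  have hy0P : y0 ∈ (P : Subgroup G) := (P : Subgroup G).pow_mem g.2 _
  have hoy : orderOf y0 = p := by
    rw [hy0, orderOf_pow_of_dvd (pow_ne_zero _ hp.ne_zero) (by rw [hog]; exact pow_dvd_pow _ (Nat.le_succ m)),
      hog, pow_succ, Nat.mul_div_cancel_left _ (pow_pos hp.pos m)]
  have hy01 : y0 ≠ 1 := by
    intro h; rw [h, orderOf_one] at hoy; exact hp.one_lt.ne hoy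
  set Z : Subgroup G := Subgroup.zpowers y0 with hZ
  have hKZ : K ≤ Nz Z := by
    intro k hk
    apply K5_mem_Nz
    have hw : k * y0 * k⁻¹ ∈ Z := by
      have hwP : k * y0 * k⁻¹ ∈ (P : Subgroup G) :=
        (Subgroup.mem_normalizer_iff.mp (hK hk) y0).mp hy0P
      obtain ⟨j, hj⟩ := Subgroup.mem_zpowers_iff.mp (hg ⟨_, hwP⟩)
      have hj' : (g : G) ^ j = k * y0 * k⁻¹ := by
        have := congrArg Subtype.val hj
        simpa using this
      have h1 : (g : G) ^ (j * p) = 1 := by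
        rw [zpow_mul, hj', zpow_natCast, conj_pow, ← hoy, pow_orderOf_eq_one]; group
      have h2 : ((p ^ (m + 1) : ℕ) : ℤ) ∣ j * p := by
        rw [← hog]; exact orderOf_dvd_iff_zpow_eq_one.mpr h1
      have h3 : ((p ^ m : ℕ) : ℤ) ∣ j := by
        rw [pow_succ, Nat.cast_mul] at h2
        exact (mul_dvd_mul_iff_right (by exact_mod_cast hp.ne_zero)).mp h2
      obtain ⟨j', rfl⟩ := h3
      rw [← hj', zpow_mul, zpow_natCast]
      exact Subgroup.zpow_mem_zpowers _ _
    intro s hs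
    obtain ⟨i, rfl⟩ := Subgroup.mem_zpowers_iff.mp hs
    rw [← conj_zpow]
    exact Z.zpow_mem hw i
  have hcZ : Nat.card Z = p := by rw [hZ, Nat.card_zpowers, hoy]
  obtain ⟨e⟩ := PHI_equiv Z p hcZ
  refine ⟨(e.toMonoidHom.comp Z.normalizerMonoidHom).comp (Subgroup.inclusion hKZ), ?_⟩
  intro k
  have h1 : ((e.toMonoidHom.comp Z.normalizerMonoidHom).comp (Subgroup.inclusion hKZ)) k = 1 ↔
      Subgroup.inclusion hKZ k ∈ Z.normalizerMonoidHom.ker := by
    rw [MonoidHom.mem_ker]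
    simp only [MonoidHom.comp_apply, MulEquiv.coe_toMonoidHom]
    exact e.map_eq_one_iff
  rw [h1, Subgroup.normalizerMonoidHom_ker, Subgroup.mem_subgroupOf]
  have hkPP : PP p (k : G) := by
    have h1 : orderOf (k : G) ∣ Nat.card K := by
      rw [Subgroup.orderOf_coe]; exact orderOf_dvd_natCard k
    exact Nat.Coprime.coprime_dvd_left h1 hKp
  constructor
  · intro h
    have hc : y0 * (k : G) = (k : G) * y0 :=
      (Subgroup.mem_centralizer_iff.mp h) y0 (Subgroup.mem_zpowers y0)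
    have := F.fp P k (hK k.2) hkPP ⟨y0, hy0P, hy01, hc.symm⟩
    rw [Subgroup.mem_centralizer_iff]
    intro s hs
    exact (this s hs).symm
  · intro h
    rw [Subgroup.mem_centralizer_iff]
    intro s hs
    have hsP : s ∈ (P : Subgroup G) := by
      have : Z ≤ (P : Subgroup G) := by
        rw [hZ, Subgroup.zpowers_le]; exact hy0P
      exact this hs
    exact (Subgroup.mem_centralizer_iff.mp h) s hsP

end Cfsg.Agent.Lib.Helper59.CY
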