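import Cfsg.Agent.Lib.Helper59.CY.G1
import Cfsg.Agent.Lib.Helper59.CY.G4
import Cfsg.Agent.Lib.Helper22.SupLemmas

set_option autoImplicit false

namespace Cfsg.Agent.Lib.Helper59.CY

variable {G : Type*} [Group G] [Finite G] {p : ℕ} [Fact p.Prime]

theorem q_coprime {q : ℕ} [Fact q.Prime] (hq : q ≠ p) (Q : Sylow q G) :
    (Nat.card (Q : Subgroup G)).Coprime p := by
  obtain ⟨n, hn⟩ := IsPGroup.iff_card.mp Q.2
  have h1 : Nat.card (Q : Subgroup G) = q ^ n := hn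
  rw [h1]
  exact Nat.Coprime.pow_left _ ((Nat.coprime_primes Fact.out Fact.out).mpr hq)

/-- `Q ≠ ⊤` -/
theorem q_ne_top (F : Facts p G) {q : ℕ} [Fact q.Prime] (hq : q ≠ p) (Q : Sylow q G) :
    (Q : Subgroup G) ≠ ⊤ := by
  intro h
  obtain ⟨P⟩ : Nonempty (Sylow p G) := inferInstance
  apply (F.ne P).1
  have h1 : (P : Subgroup G) ⊓ (Q : Subgroup G) = ⊥ := inf_bot_of_pgroup_coprime P.2 (q_coprime hq Q)
  rw [h, inf_top_eq] at h1
  exact h1

/-- a `p'`-element normalizing `Q` centralizes it -/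
theorem pp_cent (F : Facts p G) {q : ℕ} [Fact q.Prime] (hq : q ≠ p) (Q : Sylow q G) {x : G}
    (hx : x ∈ Nz (Q : Subgroup G)) (hxp : PP p x) : ∀ u ∈ (Q : Subgroup G), x * u = u * x := by
  intro u hu
  have hle : Subgroup.zpowers x ≤ Nz (Q : Subgroup G) := by
    rw [Subgroup.zpowers_le]; exact hx
  have hcard : (Nat.card ((Q : Subgroup G) ⊔ Subgroup.zpowers x : Subgroup G)).Coprime p := by
    apply Nat.Coprime.coprime_dvd_left (Cfsg.Agent.Lib.Helper22.card_sup_dvd hle)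
    apply Nat.Coprime.mul_left (q_coprime hq Q)
    rw [Nat.card_zpowers]; exact hxp
  exact F.ab _ hcard x ((le_sup_right : Subgroup.zpowers x ≤ _) (Subgroup.mem_zpowers x)) u
    ((le_sup_left : (Q : Subgroup G) ≤ _) hu)

-- Q1a
theorem Q1a (F : Facts p G) {q : ℕ} [Fact q.Prime] (hq : q ≠ p) (Q : Sylow q G)
    (hQ : (Q : Subgroup G) ≠ ⊥) :
    ∃ w ∈ Nz (Q : Subgroup G), PE p w ∧ ∃ u ∈ (Q : Subgroup G), w * u ≠ u * w := by
  by_contra hcon
  push Not at hcon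
  have hNC : Subgroup.normalizer ((Q : Subgroup G) : Set G) ≤ Subgroup.centralizer ((Q : Subgroup G) : Set G) := by
    intro g hg
    rw [Subgroup.mem_centralizer_iff]
    intro u hu
    obtain ⟨i, j, hi, hj, hij⟩ := decomp p g
    have h1 := hcon (g ^ i) (Subgroup.pow_mem _ hg i) hi u hu
    have h2 := pp_cent F hq Q (Subgroup.pow_mem _ hg j) hj u hu
    rw [hij]
    calc u * (g ^ i * g ^ j) = (u * g ^ i) * g ^ j := by group
      _ = (g ^ i * u) * g ^ j := by rw [h1]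
      _ = g ^ i * (u * g ^ j) := by group
      _ = g ^ i * (g ^ j * u) := by rw [h2]
      _ = g ^ i * g ^ j * u := by group
  have hc := MonoidHom.ker_transferSylow_isComplement' Q hNC
  rcases F.simp _ (MonoidHom.normal_ker (MonoidHom.transferSylow Q hNC)) with h | h
  · rw [h] at hc
    exact q_ne_top F hq Q (Subgroup.isComplement'_bot_left.mp hc)
  · rw [h] at hc
    exact hQ (Subgroup.isComplement'_top_left.mp hc)

-- Q1b
theorem Q1b (F : Facts p G) {q : ℕ} [Fact q.Prime] (hq : q ≠ p) (Q : Sylow q G)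
    (hw : ∃ w ∈ Nz (Q : Subgroup G), PE p w ∧ ∃ u ∈ (Q : Subgroup G), w * u ≠ u * w) :
    PNil p (Nz (Q : Subgroup G)) := by
  obtain ⟨w, hwN, hwp, u, hu, hwu⟩ := hw
  have hQ : (Q : Subgroup G) ≠ ⊥ := by
    intro h
    rw [h, Subgroup.mem_bot] at hu
    subst hu
    simp at hwu
  have hNt : Nz (Q : Subgroup G) ≠ ⊤ := by
    intro h
    rcases F.simp _ (Subgroup.normalizer_eq_top_iff.mp h) with h1 | h1
    · exact hQ h1
    · exact q_ne_top F hq Q h1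
  rcases F.sub _ hNt with h | ⟨R, hR, hN, hRp, hall⟩
  · exact h
  · exfalso
    have hwR : w ∈ R := hall w hwN hwp
    have h1 : w * u * w⁻¹ * u⁻¹ ∈ (Q : Subgroup G) :=
      Subgroup.mul_mem _ ((Subgroup.mem_normalizer_iff.mp hwN u).mp hu) (Subgroup.inv_mem _ hu)
    have h2 : w * u * w⁻¹ * u⁻¹ ∈ R := by
      have h3 : u * w⁻¹ * u⁻¹ ∈ R :=
        (Subgroup.mem_normalizer_iff.mp (hN (Subgroup.le_normalizer hu)) w⁻¹).mp (R.inv_mem hwR)
      have : w * u * w⁻¹ * u⁻¹ = w * (u * w⁻¹ * u⁻¹) := by group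
      rw [this]
      exact R.mul_mem hwR h3
    have h4 : w * u * w⁻¹ * u⁻¹ ∈ R ⊓ (Q : Subgroup G) := ⟨h2, h1⟩
    rw [inf_bot_of_pgroup_coprime hRp (q_coprime hq Q), Subgroup.mem_bot] at h4
    apply hwu
    have : w * u = (w * u * w⁻¹ * u⁻¹) * (u * w) := by group
    rw [this, h4, one_mul]

-- Q1d
theorem Q1d (F : Facts p G) {q : ℕ} [Fact q.Prime] (hq : q ≠ p) (Q : Sylow q G)
    {T R : Subgroup G} (hR : R ≤ Nz (Q : Subgroup G))
    (hTp : (Nat.card T).Coprime p) (hRp : IsPGroup p R)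
    (hfac : ∀ x ∈ Nz (Q : Subgroup G), ∃ t ∈ T, ∃ r ∈ R, x = t * r)
    (hw : ∃ w ∈ Nz (Q : Subgroup G), PE p w ∧ ∃ u ∈ (Q : Subgroup G), w * u ≠ u * w)
    (hc : ∀ u ∈ (Q : Subgroup G), (∀ r ∈ R, r * u = u * r) → u = 1) :
    ∃ y : G, orderOf y = p ∧ y ∈ Nz (Q : Subgroup G) ∧
      ∀ u ∈ (Q : Subgroup G), y * u = u * y → u = 1 := by
  have hpp : p.Prime := Fact.out
  have hR1 : R ≠ ⊥ := by
    intro hRb
    obtain ⟨w, hwN, ⟨k, hk⟩, u, hu, hwu⟩ := hw
    obtain ⟨t, ht, r, hr, rfl⟩ := hfac w hwN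
    rw [hRb, Subgroup.mem_bot] at hr
    subst hr
    rw [mul_one] at hk hwu
    have h1 : (orderOf t).Coprime p :=
      Nat.Coprime.coprime_dvd_left (Subgroup.orderOf_dvd_natCard T ht) hTp
    rw [hk] at h1
    have hk0 : k = 0 := by
      by_contra hk0
      have := (Nat.coprime_pow_left_iff (Nat.pos_of_ne_zero hk0) p p).mp h1
      rw [Nat.coprime_self] at this
      exact hpp.one_lt.ne' this
    rw [hk0, pow_zero, orderOf_eq_one_iff] at hk
    subst hk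
    simp at hwu
  have hpR : p ∣ Nat.card R := by
    obtain ⟨n, hn⟩ := IsPGroup.iff_card.mp hRp
    rw [hn]
    apply dvd_pow_self
    rintro rfl
    rw [pow_zero] at hn
    exact hR1 (Subgroup.card_eq_one.mp hn)
  obtain ⟨⟨y, hyR⟩, hy⟩ := exists_prime_orderOf_dvd_card' (G := R) p hpR
  rw [Subgroup.orderOf_mk] at hy
  obtain ⟨P', hP'⟩ := hRp.exists_le_sylow
  have hy1 : y ≠ 1 := by
    rintro rfl
    rw [orderOf_one] at hy
    exact hpp.one_lt.ne hy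
  refine ⟨y, hy, hR hyR, ?_⟩
  intro u hu hyu
  apply hc u hu
  intro r hr
  have huC : u ∈ Ce y := by
    rw [Subgroup.mem_centralizer_singleton_iff]
    exact hyu.symm
  have huN : u ∈ Nz (P' : Subgroup G) := F.cy P' y (hP' hyR) hy1 huC
  have h1 : r * u * r⁻¹ * u⁻¹ ∈ (Q : Subgroup G) :=
    Subgroup.mul_mem _ ((Subgroup.mem_normalizer_iff.mp (hR hr) u).mp hu) (Subgroup.inv_mem _ hu)
  have h2 : r * u * r⁻¹ * u⁻¹ ∈ (P' : Subgroup G) := by
    have h3 : u * r⁻¹ * u⁻¹ ∈ (P' : Subgroup G) :=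
      (Subgroup.mem_normalizer_iff.mp huN r⁻¹).mp (Subgroup.inv_mem _ (hP' hr))
    have : r * u * r⁻¹ * u⁻¹ = r * (u * r⁻¹ * u⁻¹) := by group
    rw [this]
    exact Subgroup.mul_mem _ (hP' hr) h3
  have h4 : r * u * r⁻¹ * u⁻¹ ∈ (P' : Subgroup G) ⊓ (Q : Subgroup G) := ⟨h2, h1⟩
  rw [inf_bot_of_pgroup_coprime P'.2 (q_coprime hq Q), Subgroup.mem_bot] at h4
  have : r * u = (r * u * r⁻¹ * u⁻¹) * (u * r) := by group
  rw [this, h4, one_mul]

end Cfsg.Agent.Lib.Helper59.CY
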