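import Cfsg.Agent.Lib.Helper59.CY.Q
import Cfsg.Agent.S0075

set_option autoImplicit false

namespace Cfsg.Agent.Lib.Helper59.CY

open scoped commutatorElement

variable {G : Type*} [Group G] [Finite G] {p : ℕ} [Fact p.Prime]

theorem pResidual_top (F : Facts p G) {q : ℕ} [Fact q.Prime] (hq : q ≠ p) :
    Cfsg.pResidual q G = ⊤ := by
  have hnorm : (Cfsg.pResidual q G).Normal := by
    constructor
    intro n hn g
    have : (Cfsg.pResidual q G).map (MulAut.conj g).toMonoidHom ≤ Cfsg.pResidual q G := by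
      unfold Cfsg.pResidual
      rw [MonoidHom.map_closure, Subgroup.closure_le]
      rintro _ ⟨x, hx, rfl⟩
      apply Subgroup.subset_closure
      show Nat.Coprime (orderOf ((MulAut.conj g) x)) q
      rw [MulEquiv.orderOf_eq]
      exact hx
    exact this ⟨n, hn, rfl⟩
  rcases F.simp _ hnorm with h | h
  · exfalso
    obtain ⟨P⟩ : Nonempty (Sylow p G) := inferInstance
    apply (F.ne P).1
    rw [eq_bot_iff, ← h]
    intro y hy
    apply Subgroup.subset_closure
    obtain ⟨k, hk⟩ := PE_of_mem_pgroup P.2 hy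
    show Nat.Coprime (orderOf y) q
    rw [hk]
    exact Nat.Coprime.pow_left _ ((Nat.coprime_primes Fact.out Fact.out).mpr hq.symm)
  · exact h

-- Q1c
theorem Q1c (F : Facts p G) {q : ℕ} [Fact q.Prime] (hq : q ≠ p) (Q : Sylow q G)
    {T R : Subgroup G} (hQT : (Q : Subgroup G) ≤ T) (hR : R ≤ Nz (Q : Subgroup G))
    (hTp : (Nat.card T).Coprime p) (hRp : IsPGroup p R)
    (hfac : ∀ x ∈ Nz (Q : Subgroup G), ∃ t ∈ T, ∃ r ∈ R, x = t * r) :
    ∀ u ∈ (Q : Subgroup G), (∀ r ∈ R, r * u = u * r) → u = 1 := by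
  classical
  have hQab := F.ab _ (q_coprime hq Q)
  have hTab := F.ab _ hTp
  have hQc : IsMulCommutative (Q : Subgroup G) :=
    ⟨⟨fun a b => Subtype.ext (hQab a a.2 b b.2)⟩⟩
  have h75 := Cfsg.Agent.S0075.result Q hQc
  rw [pResidual_top F hq, inf_top_eq] at h75
  letI : CommGroup (Q : Subgroup G) := { (inferInstance : Group (Q : Subgroup G)) with
    mul_comm := fun a b => Subtype.ext (hQab a a.2 b b.2) }
  haveI : Fintype R := Fintype.ofFinite R
  let c : R → ((Q : Subgroup G) →* (Q : Subgroup G)) := fun r =>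
    { toFun := fun u => ⟨r * u * r⁻¹, (Subgroup.mem_normalizer_iff.mp (hR r.2) u).mp u.2⟩
      map_one' := by
        apply Subtype.ext
        show (r : G) * 1 * (r : G)⁻¹ = 1
        group
      map_mul' := by
        intro a b
        apply Subtype.ext
        show (r : G) * ((a : G) * b) * (r : G)⁻¹ = (r : G) * a * (r : G)⁻¹ * ((r : G) * b * (r : G)⁻¹)
        group }
  let ν : (Q : Subgroup G) →* (Q : Subgroup G) := ∏ r : R, c r
  have hν : ∀ u, ν u = ∏ r : R, c r u := fun u => MonoidHom.finset_prod_apply _ _ _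
  have hinv : ∀ (s : R) (u : (Q : Subgroup G)), ν (c s u) = ν u := by
    intro s u
    rw [hν, hν]
    apply Fintype.prod_equiv (Equiv.mulRight s)
    intro r
    apply Subtype.ext
    show (r : G) * ((s : G) * u * (s : G)⁻¹) * (r : G)⁻¹ = ((r : G) * s) * u * ((r : G) * s)⁻¹
    group
  have hker : ⁅(Q : Subgroup G), Subgroup.normalizer ((Q : Subgroup G) : Set G)⁆ ≤
      (ν.ker).map (Q : Subgroup G).subtype := by
    rw [Subgroup.commutator_le]
    intro u hu n hn
    obtain ⟨t, ht, r, hr, rfl⟩ := hfac n hn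
    have h1 : r * u * r⁻¹ ∈ (Q : Subgroup G) := (Subgroup.mem_normalizer_iff.mp (hR hr) u).mp hu
    have h2 : t * (r * u * r⁻¹) = (r * u * r⁻¹) * t := hTab t ht _ (hQT h1)
    have h3 : ⁅u, t * r⁆ = u * (r * u * r⁻¹)⁻¹ := by
      rw [commutatorElement_def]
      have : u * (t * r) * u⁻¹ * (t * r)⁻¹ = u * (t * (r * u * r⁻¹) * t⁻¹)⁻¹ := by group
      rw [this, h2]
      group
    rw [h3]
    refine ⟨⟨u, hu⟩ * (c ⟨r, hr⟩ ⟨u, hu⟩)⁻¹, ?_, rfl⟩
    show ν _ = 1
    rw [map_mul, map_inv, hinv, mul_inv_cancel]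
  intro u hu hfix
  have hu2 : u ∈ (ν.ker).map (Q : Subgroup G).subtype := hker (h75 ▸ hu)
  obtain ⟨v, hv, hvu⟩ := hu2
  have hvu' : v = ⟨u, hu⟩ := Subtype.ext hvu
  subst hvu'
  have h4 : ν ⟨u, hu⟩ = 1 := hv
  rw [hν] at h4
  have h5 : ∀ r : R, c r ⟨u, hu⟩ = ⟨u, hu⟩ := by
    intro r
    apply Subtype.ext
    show (r : G) * u * (r : G)⁻¹ = u
    rw [hfix r r.2]; group
  simp only [h5, Finset.prod_const, Finset.card_univ] at h4
  have h6 : u ^ Fintype.card R = 1 := by
    have := congrArg Subtype.val h4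
    simpa using this
  have h7 : orderOf u ∣ Nat.card R := by
    rw [Nat.card_eq_fintype_card]; exact orderOf_dvd_of_pow_eq_one h6
  obtain ⟨n, hn⟩ := IsPGroup.iff_card.mp hRp
  rw [hn] at h7
  have h8 : (orderOf u).Coprime (p ^ n) :=
    Nat.Coprime.pow_right n (Nat.Coprime.coprime_dvd_left (Subgroup.orderOf_dvd_natCard _ hu) (q_coprime hq Q))
  have h9 := Nat.Coprime.eq_one_of_dvd h8 h7
  exact orderOf_eq_one_iff.mp h9

end Cfsg.Agent.Lib.Helper59.CY
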