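import Cfsg.Agent.Lib.Helper59.CY.Base

set_option autoImplicit false

namespace Cfsg.Agent.Lib.Helper59.CY

variable {G : Type*} [Group G] [Finite G] {p : ℕ} [Fact p.Prime]

-- Q3
theorem Q3 (hQ : ∀ (q : ℕ) [Fact q.Prime], q ≠ p → ∀ Q : Sylow q G, Nat.card (Q : Subgroup G) ≡ 1 [MOD p])
    (P : Sylow p G) (k : ℕ) (hk : Nat.card (Nz (P : Subgroup G)) = Nat.card (P : Subgroup G) * k) :
    k ≡ 1 [MOD p] := by
  have hpp : p.Prime := Fact.out
  set n := Nat.card G with hn
  have hn0 : n ≠ 0 := Nat.card_pos.ne'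
  have hm : ordCompl[p] n ≡ 1 [MOD p] := by
    have h0 : ordCompl[p] n ≠ 0 := (Nat.ordCompl_pos p hn0).ne'
    rw [← Nat.factorization_prod_pow_eq_self h0, Nat.factorization_ordCompl, Finsupp.prod]
    apply Finset.prod_induction _ (fun x => x ≡ 1 [MOD p])
    · intro a b ha hb
      simpa using ha.mul hb
    · exact Nat.ModEq.refl 1
    · intro q hq
      rw [Finsupp.support_erase, Finset.mem_erase] at hq
      have hqp : q.Prime := Nat.prime_of_mem_primeFactors (by simpa using hq.2)
      haveI : Fact q.Prime := ⟨hqp⟩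
      obtain ⟨Q⟩ : Nonempty (Sylow q G) := inferInstance
      have h1 := hQ q hq.1 Q
      rw [Sylow.card_eq_multiplicity] at h1
      rw [Finsupp.erase_ne hq.1]
      exact h1
  have h1 : Nat.card (P : Subgroup G) = ordProj[p] n := Sylow.card_eq_multiplicity P
  have h2 : (Nz (P : Subgroup G)).index ≡ 1 [MOD p] := by
    have h0 : Nat.card (Sylow p G) = (Nz (P : Subgroup G)).index := Sylow.card_eq_index_normalizer P
    rw [← h0]
    exact card_sylow_modEq_one p G
  have h3 : (Nz (P : Subgroup G)).index * Nat.card (Nz (P : Subgroup G)) = n :=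
    Subgroup.index_mul_card _
  have h4 : ordProj[p] n * ordCompl[p] n = n := Nat.ordProj_mul_ordCompl_eq_self n p
  have h5 : ordCompl[p] n = (Nz (P : Subgroup G)).index * k := by
    have hpos : 0 < ordProj[p] n := Nat.ordProj_pos n p
    rw [hk, h1] at h3
    have : ordProj[p] n * ordCompl[p] n = ordProj[p] n * ((Nz (P : Subgroup G)).index * k) := by
      rw [h4]
      calc n = (Nz (P : Subgroup G)).index * (ordProj[p] n * k) := h3.symm
        _ = ordProj[p] n * ((Nz (P : Subgroup G)).index * k) := by ring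
    exact Nat.eq_of_mul_eq_mul_left hpos this
  rw [h5] at hm
  have h6 : (Nz (P : Subgroup G)).index * k ≡ 1 * k [MOD p] := h2.mul_right k
  rw [one_mul] at h6
  exact h6.symm.trans hm

end Cfsg.Agent.Lib.Helper59.CY
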