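import Cfsg.Agent.Lib.Helper59.CY.Base

set_option autoImplicit false

namespace Cfsg.Agent.Lib.Helper59.CY

variable {G : Type*} [Group G] [Finite G] {p : ℕ} [Fact p.Prime]

theorem SZ (P : Sylow p G) : ∃ K : Subgroup G, K ≤ Nz (P : Subgroup G) ∧ (Nat.card K).Coprime p ∧
    Nat.card (Nz (P : Subgroup G)) = Nat.card (P : Subgroup G) * Nat.card K ∧
    ∀ n ∈ Nz (P : Subgroup G), ∃ y ∈ (P : Subgroup G), ∃ k ∈ K, n = y * k := by
  have hp : p.Prime := Fact.out
  set N : Subgroup G := Nz (P : Subgroup G) with hN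
  have hPN : (P : Subgroup G) ≤ N := Subgroup.le_normalizer
  set P' : Subgroup N := (P : Subgroup G).subgroupOf N with hP'
  haveI : P'.Normal := Subgroup.normal_in_normalizer
  have hcardP' : Nat.card P' = Nat.card (P : Subgroup G) :=
    Nat.card_congr (Subgroup.subgroupOfEquivOfLe hPN).toEquiv
  have hidx : ¬ p ∣ P'.index := by
    intro h
    apply P.not_dvd_index
    have h1 : (P : Subgroup G).relIndex N * N.index = (P : Subgroup G).index :=
      Subgroup.relIndex_mul_index hPN
    rw [← h1]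
    exact Dvd.dvd.mul_right h _
  obtain ⟨n, hn⟩ := IsPGroup.iff_card.mp P.isPGroup'
  have hcop : Nat.Coprime (Nat.card P') P'.index := by
    rw [hcardP', hn]
    exact Nat.Coprime.pow_left n ((Nat.Prime.coprime_iff_not_dvd hp).mpr hidx)
  obtain ⟨H, hH⟩ := Subgroup.exists_right_complement'_of_coprime hcop
  have hcm : Nat.card (H.map N.subtype) = Nat.card H :=
    Subgroup.card_map_of_injective N.subtype_injective
  refine ⟨H.map N.subtype, Subgroup.map_subtype_le _, ?_, ?_, ?_⟩
  · rw [hcm, ← hH.symm.index_eq_card]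
    exact ((Nat.Prime.coprime_iff_not_dvd hp).mpr hidx).symm
  · rw [hcm, ← hcardP']
    exact hH.card_mul_card.symm
  · intro x hx
    obtain ⟨⟨y, k⟩, hyk⟩ := hH.2 ⟨x, hx⟩
    refine ⟨(y : N), Subgroup.mem_subgroupOf.mp y.2, (k : N), ⟨k, k.2, rfl⟩, ?_⟩
    have := congrArg Subtype.val hyk
    simpa using this.symm

end Cfsg.Agent.Lib.Helper59.CY
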