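import Cfsg.Agent.Lib.Helper59.CY.G1
import Cfsg.Agent.S0086

set_option autoImplicit false

namespace Cfsg.Agent.Lib.Helper59.CY

variable {G : Type*} [Group G] [Finite G] {p : ℕ} [Fact p.Prime]

-- W1
theorem bridge (H : Subgroup G)
    (h : Cfsg.HasNormalPComplement p ↥H ∨ ∃ S : Sylow p ↥H, (S : Subgroup ↥H).Normal) :
    PNil p H ∨ PCl p H := by
  have hpp : p.Prime := Fact.out
  rcases h with ⟨S, N, hN, hc⟩ | ⟨S, hS⟩
  · left
    refine ⟨N.map H.subtype, (S : Subgroup ↥H).map H.subtype, ?_, ?_, ?_, ?_, ?_, ?_, ?_⟩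
    · exact Subgroup.map_subtype_le N
    · exact Subgroup.map_subtype_le _
    · intro x hx
      rw [Subgroup.mem_normalizer_iff]
      intro u
      constructor
      · rintro ⟨v, hv, rfl⟩
        exact ⟨⟨x, hx⟩ * v * ⟨x, hx⟩⁻¹, hN.conj_mem v hv _, rfl⟩
      · rintro ⟨v, hv, hvu⟩
        refine ⟨⟨x, hx⟩⁻¹ * v * ⟨x, hx⟩, ?_, ?_⟩
        · have := hN.conj_mem v hv (⟨x, hx⟩⁻¹)
          simpa using this
        · show x⁻¹ * (v : G) * x = u
          have h2 : (v : G) = x * u * x⁻¹ := hvu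
          rw [h2]; group
    · rw [Subgroup.card_map_of_injective H.subtype_injective]
      have h1 := hc.card_mul
      have h2 : Nat.card N = (S : Subgroup ↥H).index := by
        have h3 := (S : Subgroup ↥H).card_mul_index
        have hpos : 0 < Nat.card (S : Subgroup ↥H) := Nat.card_pos
        nlinarith
      rw [h2]
      exact ((Nat.Prime.coprime_iff_not_dvd hpp).mpr S.not_dvd_index).symm
    · exact S.2.map H.subtype
    · intro x hx
      obtain ⟨⟨⟨t, ht⟩, ⟨r, hr⟩⟩, htr⟩ := hc.2 ⟨x, hx⟩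
      refine ⟨t, Subgroup.mem_map_of_mem _ ht, r, Subgroup.mem_map_of_mem _ hr, ?_⟩
      exact (congrArg Subtype.val htr).symm
    · intro x hx hxp
      haveI := hN
      have := (Cfsg.Agent.S0086.result S N hc ⟨x, hx⟩).mpr (by
        rw [Subgroup.orderOf_mk]; exact hxp)
      exact ⟨⟨x, hx⟩, this, rfl⟩
  · right
    refine ⟨(S : Subgroup ↥H).map H.subtype, Subgroup.map_subtype_le _, ?_, S.2.map H.subtype, ?_⟩
    · intro x hx
      rw [Subgroup.mem_normalizer_iff]
      intro u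
      constructor
      · rintro ⟨v, hv, rfl⟩
        exact ⟨⟨x, hx⟩ * v * ⟨x, hx⟩⁻¹, hS.conj_mem v hv _, rfl⟩
      · rintro ⟨v, hv, hvu⟩
        refine ⟨⟨x, hx⟩⁻¹ * v * ⟨x, hx⟩, ?_, ?_⟩
        · have := hS.conj_mem v hv (⟨x, hx⟩⁻¹)
          rw [inv_inv] at this
          exact this
        · show x⁻¹ * (v : G) * x = u
          have h2 : (v : G) = x * u * x⁻¹ := hvu
          rw [h2]; group
    · intro x hx hxp
      have h1 : (⟨x, hx⟩ : ↥H) ∈ Nz (S : Subgroup ↥H) := by
        have : Nz (S : Subgroup ↥H) = ⊤ := Subgroup.normalizer_eq_top_iff.mpr hS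
        rw [this]; trivial
      have h2 : PE p (⟨x, hx⟩ : ↥H) := by
        obtain ⟨k, hk⟩ := hxp
        exact ⟨k, by rw [Subgroup.orderOf_mk]; exact hk⟩
      exact ⟨⟨x, hx⟩, pin S h1 h2, rfl⟩

-- W2
theorem cyc_sub (P : Sylow p G) (hcyc : IsCyclic (P : Subgroup G)) (H : Subgroup G) (S : Sylow p ↥H) :
    IsCyclic (S : Subgroup ↥H) := by
  have h1 : IsPGroup p ((S : Subgroup ↥H).map H.subtype) := S.2.map H.subtype
  obtain ⟨P', hP'⟩ := h1.exists_le_sylow
  obtain ⟨g, rfl⟩ := MulAction.exists_smul_eq G P P'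
  -- the map S → P, s ↦ g⁻¹ s g is an injective hom
  have hmem : ∀ s : (S : Subgroup ↥H), g⁻¹ * ((s : ↥H) : G) * g ∈ (P : Subgroup G) := by
    intro s
    have h2 : ((s : ↥H) : G) ∈ ((g • P : Sylow p G) : Subgroup G) :=
      hP' (Subgroup.mem_map_of_mem _ s.2)
    rw [Sylow.coe_subgroup_smul, Subgroup.mem_pointwise_smul_iff_inv_smul_mem] at h2
    simpa [MulAut.smul_def, MulAut.conj_apply] using h2
  let f : (S : Subgroup ↥H) →* (P : Subgroup G) :=
    { toFun := fun s => ⟨g⁻¹ * ((s : ↥H) : G) * g, hmem s⟩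
      map_one' := by
        apply Subtype.ext
        show g⁻¹ * 1 * g = 1
        group
      map_mul' := by
        intro a b
        apply Subtype.ext
        show g⁻¹ * (((a : ↥H) : G) * ((b : ↥H) : G)) * g = g⁻¹ * ((a : ↥H) : G) * g * (g⁻¹ * ((b : ↥H) : G) * g)
        group }
  have hf : Function.Injective f := by
    intro a b hab
    have h3 : g⁻¹ * ((a : ↥H) : G) * g = g⁻¹ * ((b : ↥H) : G) * g := congrArg Subtype.val hab
    apply Subtype.ext
    apply Subtype.ext
    have := mul_right_cancel h3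
    exact mul_left_cancel this
  exact isCyclic_of_injective f hf

end Cfsg.Agent.Lib.Helper59.CY
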