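import Cfsg.Agent.Lib.Helper59.CY.AR
import Cfsg.Agent.Lib.Helper59.CY.CA
import Cfsg.Agent.Lib.Helper59.CY.CP
import Cfsg.Agent.Lib.Helper59.CY.FA1
import Cfsg.Agent.Lib.Helper59.CY.FA2
import Cfsg.Agent.Lib.Helper59.CY.FA3
import Cfsg.Agent.Lib.Helper59.CY.FB1
import Cfsg.Agent.Lib.Helper59.CY.FB2
import Cfsg.Agent.Lib.Helper59.CY.FB3
import Cfsg.Agent.Lib.Helper59.CY.FB4
import Cfsg.Agent.Lib.Helper59.CY.FC
import Cfsg.Agent.Lib.Helper59.CY.G1
import Cfsg.Agent.Lib.Helper59.CY.G4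
import Cfsg.Agent.Lib.Helper59.CY.K2
import Cfsg.Agent.Lib.Helper59.CY.K3
import Cfsg.Agent.Lib.Helper59.CY.K4
import Cfsg.Agent.Lib.Helper59.CY.K5
import Cfsg.Agent.Lib.Helper59.CY.KI
import Cfsg.Agent.Lib.Helper59.CY.M0
import Cfsg.Agent.Lib.Helper59.CY.M1
import Cfsg.Agent.Lib.Helper59.CY.M10
import Cfsg.Agent.Lib.Helper59.CY.M2
import Cfsg.Agent.Lib.Helper59.CY.M3
import Cfsg.Agent.Lib.Helper59.CY.M4
import Cfsg.Agent.Lib.Helper59.CY.M5
import Cfsg.Agent.Lib.Helper59.CY.M6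
import Cfsg.Agent.Lib.Helper59.CY.M7
import Cfsg.Agent.Lib.Helper59.CY.M8
import Cfsg.Agent.Lib.Helper59.CY.M9
import Cfsg.Agent.Lib.Helper59.CY.PHI
import Cfsg.Agent.Lib.Helper59.CY.Q
import Cfsg.Agent.Lib.Helper59.CY.Q1c
import Cfsg.Agent.Lib.Helper59.CY.Q3
import Cfsg.Agent.Lib.Helper59.CY.SZ
import Cfsg.Agent.Lib.Helper59.CY.W
import Cfsg.Agent.S3282

set_option autoImplicit false

namespace Cfsg.Agent.Lib.Helper59.CY

universe u

variable {G : Type*} [Group G] [Finite G] {p : ℕ} [Fact p.Prime]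

theorem facts {P : Sylow p G} (h : MC p P) : Facts p G := by
  have hMC : ∀ P' : Sylow p G, MC p P' := fun P' => MC_conj h P'
  have hex : ∀ P' : Sylow p G, ∃ x ∈ Nz (P' : Subgroup G), PP p x ∧
      ∃ y ∈ (P' : Subgroup G), x * y ≠ y * x := fun P' => ex_x (hMC P')
  have hfp : ∀ P' : Sylow p G, ∀ x ∈ Nz (P' : Subgroup G), PP p x →
      (∃ y ∈ (P' : Subgroup G), y ≠ 1 ∧ x * y = y * x) → ∀ y ∈ (P' : Subgroup G), x * y = y * x :=
    fun P' x hx hxp hfix => fp P' (hMC P').cyc hx hxp hfix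
  obtain ⟨x, hxN, hxp, y0, hy0, hxy0⟩ := hex P
  have hfpf : ∀ y ∈ (P : Subgroup G), x * y = y * x → y = 1 := by
    intro y hy hc
    by_contra hne
    exact hxy0 (hfp P x hxN hxp ⟨y, hy, hne, hc⟩ y0 hy0)
  have honto := onto P h.cyc hxN hfpf
  have hTS := fun T hT hTp => TS P h.ab hxp honto T hT hTp
  have hNS1 := fun M hM hMt => NS1 h hTS M hM hMt
  have hNS2 := fun M hM hMt => NS2 h hNS1 ⟨x, hfpf⟩ M hM hMt
  have hNS3 := fun M hM hMt => NS3 h hTS hNS2 M hM hMt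
  obtain ⟨hsimp, hzc⟩ := simple' h hNS3
  exact
    { ab := h.ab
      sub := h.sub
      simp := hsimp
      zc := hzc
      cyc := fun P' => (hMC P').cyc
      ne := fun P' => ⟨fun hb => (hMC P').nnorm (by rw [hb]; infer_instance),
        fun ht => (hMC P').nnorm (by rw [ht]; infer_instance)⟩
      ex := hex
      fp := hfp
      dl := fun P' H hH hPH hx => dl (hMC P') H hH hPH hx
      cy := fun P' => cy (hMC P') hsimp (hex P') (fun H hH hPH hx => dl (hMC P') H hH hPH hx)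
      pin := fun P' w hw hwp => pin P' hw hwp }

theorem PP_of_mem {H : Subgroup G} (hH : (Nat.card H).Coprime p) {x : G} (hx : x ∈ H) : PP p x :=
  Nat.Coprime.coprime_dvd_left (Subgroup.orderOf_dvd_natCard H hx) hH

theorem sylow_coprime {q : ℕ} [Fact q.Prime] (hq : q ≠ p) (Q : Sylow q G) :
    (Nat.card (Q : Subgroup G)).Coprime p := by
  obtain ⟨n, hn⟩ := IsPGroup.iff_card.mp Q.2
  have h1 : Nat.card (Q : Subgroup G) = q ^ n := hn
  rw [h1]
  exact Nat.Coprime.pow_left _ ((Nat.coprime_primes Fact.out Fact.out).mpr hq)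

theorem Q1 (F : Facts p G) {q : ℕ} [Fact q.Prime] (hq : q ≠ p) (Q : Sylow q G)
    (hQ : (Q : Subgroup G) ≠ ⊥) :
    ∃ (T : Subgroup G) (y : G), (Q : Subgroup G) ≤ T ∧ Nz (Q : Subgroup G) ≤ Nz T ∧
      (Nat.card T).Coprime p ∧ (∀ x ∈ Nz (Q : Subgroup G), PP p x → x ∈ T) ∧ orderOf y = p ∧
      y ∈ Nz (Q : Subgroup G) ∧ ∀ u ∈ (Q : Subgroup G), y * u = u * y → u = 1 := by
  have hw := Q1a F hq Q hQ
  obtain ⟨T, R, hT, hR, hN, hTp, hRp, hfac, hall⟩ := Q1b F hq Q hw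
  have hQT : (Q : Subgroup G) ≤ T := fun u hu =>
    hall u (Subgroup.le_normalizer hu) (PP_of_mem (sylow_coprime hq Q) hu)
  have hc := Q1c F hq Q hQT hR hTp hRp hfac
  obtain ⟨y, hy, hyQ, hf⟩ := Q1d F hq Q hR hTp hRp hfac hw hc
  exact ⟨T, y, hQT, hN, hTp, hall, hy, hyQ, hf⟩

theorem cardQ (F : Facts p G) (q : ℕ) [Fact q.Prime] (hq : q ≠ p) (Q : Sylow q G) :
    Nat.card (Q : Subgroup G) ≡ 1 [MOD p] := by
  by_cases hQ : (Q : Subgroup G) = ⊥
  · rw [hQ, Subgroup.card_bot]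
  · obtain ⟨T, y, -, -, -, -, hy, hyQ, hf⟩ := Q1 F hq Q hQ
    exact fpf_card hy hyQ hf

theorem P_comm (P : Sylow p G) (hcyc : IsCyclic (P : Subgroup G)) :
    ∀ a ∈ (P : Subgroup G), ∀ b ∈ (P : Subgroup G), a * b = b * a := by
  intro a ha b hb
  have := @IsCyclic.isMulCommutative _ _ hcyc
  have h1 := this.is_comm.comm (⟨a, ha⟩ : (P : Subgroup G)) ⟨b, hb⟩
  exact congrArg Subtype.val h1

theorem CAall (F : Facts p G) (P' : Sylow p G) (u : G) (hu : u ∈ Cz (P' : Subgroup G)) (hup : PP p u)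
    (hu1 : u ≠ 1) : Ce u ≤ Nz (P' : Subgroup G) := by
  obtain ⟨K, hK, hKp, -, hfac⟩ := SZ P'
  exact CA F P' hK hKp hfac (CP F P' hKp hfac hu hup) hu hu1

theorem KS (F : Facts p G) (P : Sylow p G) :
    p = 3 ∧ ∃ (K : Subgroup G) (y : G) (Q : Sylow 2 G), K ≤ Nz (P : Subgroup G) ∧ Nat.card K = 4 ∧
      (∀ u ∈ K, u ^ 2 = 1) ∧ Nat.card (K ⊓ Cz (P : Subgroup G) : Subgroup G) = 2 ∧
      (∀ n ∈ Nz (P : Subgroup G), ∃ y ∈ (P : Subgroup G), ∃ k ∈ K, n = y * k) ∧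
      (Q : Subgroup G) = K ∧ orderOf y = 3 ∧ y ∈ Nz K ∧ (∀ u ∈ K, y * u = u * y → u = 1) ∧
      (∀ u ∈ K, u ∈ Cz (P : Subgroup G) → u ≠ 1 → Ce u ≤ Nz (P : Subgroup G)) := by
  obtain ⟨K, hK, hKp, hcard, hfac⟩ := SZ P
  obtain ⟨φ, hφ⟩ := phi F P hK hKp
  obtain ⟨e, he, hep⟩ := K_index P φ hφ
  have hk1 : Nat.card K ≡ 1 [MOD p] := Q3 (fun q _ hq Q => cardQ F q hq Q) P _ hcard
  have hKab := F.ab K hKp
  have he1 : e ≠ 1 := by
    intro h1
    rw [h1, one_mul] at he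
    have hle : K ≤ K ⊓ Cz (P : Subgroup G) := by
      have := Subgroup.eq_of_le_of_card_ge (inf_le_left : K ⊓ Cz (P : Subgroup G) ≤ K) he.le
      exact this.ge
    obtain ⟨x, hxN, -, y, hy, hxy⟩ := F.ex P
    obtain ⟨y1, hy1, k, hk, rfl⟩ := hfac x hxN
    apply hxy
    have h2 : k * y = y * k := by
      have := (hle hk).2
      exact (Subgroup.mem_centralizer_iff.mp this y hy).symm
    have h3 := P_comm P (F.cyc P) y1 hy1 y hy
    calc y1 * k * y = y1 * (k * y) := by group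
      _ = y1 * (y * k) := by rw [h2]
      _ = (y1 * y) * k := by group
      _ = (y * y1) * k := by rw [h3]
      _ = y * (y1 * k) := by group
  have hf1 : Nat.card (K ⊓ Cz (P : Subgroup G) : Subgroup G) ≠ 1 := AR5 hep he1 (he ▸ hk1)
  set f := Nat.card (K ⊓ Cz (P : Subgroup G) : Subgroup G) with hfdef
  haveI : Fact (f.minFac).Prime := ⟨Nat.minFac_prime hf1⟩
  obtain ⟨⟨a, haKC⟩, ha⟩ := exists_prime_orderOf_dvd_card' (G := (K ⊓ Cz (P : Subgroup G) : Subgroup G))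
    f.minFac (Nat.minFac_dvd f)
  rw [Subgroup.orderOf_mk] at ha
  set q := f.minFac with hqdef
  have hqprime : q.Prime := Fact.out
  have haK : a ∈ K := haKC.1
  have haC : a ∈ Cz (P : Subgroup G) := haKC.2
  have ha1 : a ≠ 1 := by
    rintro rfl
    rw [orderOf_one] at ha
    exact hqprime.one_lt.ne ha
  have hCAP : ∀ u ∈ K, u ∈ Cz (P : Subgroup G) → u ≠ 1 → Ce u ≤ Nz (P : Subgroup G) :=
    fun u huK hu hu1 => CA F P hK hKp hfac huK hu hu1
  obtain ⟨Q, hQK, haQ⟩ := K2 F P hKp hcard haK ha (hCAP a haK haC ha1)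
  have hqK : q ∣ Nat.card K := ha ▸ Subgroup.orderOf_dvd_natCard K haK
  have hq : q ≠ p := by
    intro h
    have : p ∣ Nat.card K := h ▸ hqK
    have h2 := Nat.Coprime.eq_one_of_dvd hKp.symm this
    exact (Fact.out : p.Prime).one_lt.ne' h2
  have hQ1 : (Q : Subgroup G) ≠ ⊥ := by
    intro h
    rw [h, Subgroup.mem_bot] at haQ
    exact ha1 haQ
  obtain ⟨T, y, hQT, hNT, hTp, hall, hy, hyQ, hf⟩ := Q1 F hq Q hQ1
  have hTK : T = K := K3 F P hKp hcard Q hQK haQ (hCAP a haK haC ha1) hQT hTp hall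
  have hyK : y ∈ Nz K := hTK ▸ hNT hyQ
  have hfK := K4 F hKp hq Q hQK hQ1 hy hyQ hf (CAall F)
  have h5 := K5 F P hy hfK hCAP
  have hfp1 : f ∣ p - 1 := AR4 P φ hφ hyK h5
  have hle := AR1 P φ hφ hyK h5 q
  obtain ⟨W, hW, hWc⟩ := AR3 hKab hqK hle
  have hyW : y ∈ Nz W := by
    rw [Subgroup.mem_normalizer_iff]
    intro u
    rw [hW, hW, ← (Subgroup.mem_normalizer_iff.mp hyK u), conj_pow]
    constructor
    · rintro ⟨h1, h2⟩
      exact ⟨h1, by rw [h2]; group⟩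
    · rintro ⟨h1, h2⟩
      refine ⟨h1, ?_⟩
      have : u ^ q = y⁻¹ * (y * u ^ q * y⁻¹) * y := by group
      rw [this, h2]; group
  have hWmod : Nat.card W ≡ 1 [MOD p] := fpf_card hy hyW (fun u hu => hfK u ((hW u).mp hu).1)
  obtain ⟨hp3, hq2, hc4⟩ := AR2 hqprime ((Nat.minFac_dvd f).trans hfp1) hWc hWmod
  refine ⟨hp3, ?_⟩
  subst hp3
  have he2 : e = 2 := by
    have : e ∣ 2 := hep
    rcases (Nat.dvd_prime Nat.prime_two).mp this with h | h
    · exact absurd h he1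
    · exact h
  have hf2 : f = 2 := by
    have : f ∣ 2 := hfp1
    rcases (Nat.dvd_prime Nat.prime_two).mp this with h | h
    · exact absurd h hf1
    · exact h
  have hK4 : Nat.card K = 4 := by rw [he, he2, hf2]
  have hWK : W = K := by
    apply Subgroup.eq_of_le_of_card_ge (fun u hu => ((hW u).mp hu).1)
    rw [hK4, hc4]
  have hK2 : ∀ u ∈ K, u ^ 2 = 1 := by
    intro u hu
    have := ((hW u).mp (hWK ▸ hu)).2
    rwa [hq2] at this
  have hQ' : ∃ Q' : Sylow 2 G, (Q' : Subgroup G) = K := by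
    have hK2g : IsPGroup 2 K := IsPGroup.of_card (n := 2) (by rw [hK4]; norm_num)
    obtain ⟨Q', hQ'⟩ := hK2g.exists_le_sylow
    -- Q is a Sylow q = 2 subgroup inside K
    revert Q
    rw [hq2]
    intro Q hQK
    intros
    refine ⟨Q, ?_⟩
    apply Subgroup.eq_of_le_of_card_ge hQK
    have h1 : Nat.card (Q : Subgroup G) = Nat.card (Q' : Subgroup G) := by
      rw [Sylow.card_eq_multiplicity, Sylow.card_eq_multiplicity]
    rw [h1]
    exact Subgroup.card_le_of_le hQ'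
  obtain ⟨Q', hQ'⟩ := hQ'
  exact ⟨K, y, Q', hK, hK4, hK2, hf2, hfac, hQ', hy, hyK, hfK, hCAP⟩

theorem no_MC {P : Sylow p G} (h : MC p P) : False := by
  have F := facts h
  obtain ⟨hp3, -⟩ := KS F P
  subst hp3
  obtain ⟨-, K, y, Q, hK, hK4, hK2, hK0, hfac, hQK, hy, hyK, hfK, hCA⟩ := KS F P
  obtain ⟨t, s, ht, hs, htK, hsK, htC, hsC, hts, hall⟩ := FA1 P hK4 hK2 hK0
  have hinv := FA2 F P hs (hK hsK) hsC
  have hKab := F.ab K (by rw [hK4]; decide)
  have ht1 : t ≠ 1 := by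
    rintro rfl
    rw [orderOf_one] at ht
    omega
  have hCt := FA3 P hKab hfac htK htC (hCA t htK htC ht1)
  obtain ⟨b1, b2, b3, b4, b5, b6⟩ := FB1 P (F.cyc P) ht hs htC hsC hts hinv
  have hH := FB2 P hK hfac htK hsK hall hCt
  have hTI := FB3 F P ht htC hCt
  have hconj := FB4 Q hQK ht htK hall hy hyK hfK
  have hsH : s ∈ Ce t := by
    rw [Subgroup.mem_centralizer_singleton_iff]
    exact hts.symm
  have hB := Cfsg.Agent.S3282.result t ht _ b1 b2 b3 s hs hsH b4 hH b6 b5 hTI hconj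
  refine FC F (fun P' => ?_) hB
  obtain ⟨-, K', y', Q', hK', hK4', hK2', hK0', -⟩ := KS F P'
  obtain ⟨t', s', ht', -, -, -, htC', -⟩ := FA1 P' hK4' hK2' hK0'
  exact ⟨t', ht', htC'⟩

theorem comm_of_isMulCommutative {H : Subgroup G} (h : IsMulCommutative H) :
    ∀ x ∈ H, ∀ y ∈ H, x * y = y * x := by
  intro x hx y hy
  exact congrArg Subtype.val (h.is_comm.comm (⟨x, hx⟩ : H) ⟨y, hy⟩)

theorem main_aux (p : ℕ) [Fact p.Prime] : ∀ (n : ℕ) (G : Type u) [Group G] [Finite G] (P : Sylow p G),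
    Nat.card G = n → IsCyclic (P : Subgroup G) →
    (∀ H : Subgroup G, ¬ p ∣ Nat.card H → IsMulCommutative H) →
    Cfsg.HasNormalPComplement p G ∨ (P : Subgroup G).Normal := by
  intro n
  induction n using Nat.strong_induction_on with
  | _ n ih =>
    intro G _ _ P hn hcyc hab
    by_contra hcon
    push Not at hcon
    have hpp : p.Prime := Fact.out
    refine no_MC (P := P) ⟨hcyc, ?_, hcon.1, hcon.2, ?_⟩
    · intro H hH
      exact comm_of_isMulCommutative (hab H (fun hd => by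
        have := Nat.Coprime.eq_one_of_dvd hH.symm hd
        exact hpp.one_lt.ne' this))
    · intro H hH
      obtain ⟨S⟩ : Nonempty (Sylow p ↥H) := inferInstance
      have hlt : Nat.card ↥H < n := by
        rw [← hn]
        by_contra hge
        push Not at hge
        exact hH (Subgroup.eq_top_of_card_eq H (le_antisymm (Subgroup.card_le_card_group H) hge))
      have := ih _ hlt ↥H S rfl (cyc_sub P hcyc H S) (by
        intro H' hH'
        have h1 : Nat.card (H'.map H.subtype) = Nat.card H' :=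
          Subgroup.card_map_of_injective H.subtype_injective
        have h2 := comm_of_isMulCommutative (hab (H'.map H.subtype) (by rw [h1]; exact hH'))
        refine ⟨⟨fun a b => ?_⟩⟩
        apply Subtype.ext
        apply Subtype.ext
        exact h2 _ (Subgroup.mem_map_of_mem _ a.2) _ (Subgroup.mem_map_of_mem _ b.2))
      apply bridge H
      rcases this with h | h
      · exact Or.inl h
      · exact Or.inr ⟨S, h⟩

end Cfsg.Agent.Lib.Helper59.CY
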